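import Mathlib
import Cfsg.Agent.H897.T5Cent

/-!
# Fixed points of Frobenius maps on closed sets of root groups (simply laced case)

`lemU` : `τ` a Frobenius frame automorphism of `D.group k` with lattice map `g`, `S` a closed `g`-stable set of positive
roots: the group generated by the root groups of `S` contains at least `q ^ |S|` fixed points of `τ`.
-/

set_option autoImplicit false
set_option linter.unusedSectionVars false

namespace Cfsg.Agent.H942.CB

open CoxeterSystem Cfsg Cfsg.Lie Cfsg.Lie.ChevalleyDatum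
open Cfsg.Agent.ChevalleyStructure Cfsg.Agent.ChevalleyStructure.Elts Cfsg.Agent.ChevalleyStructure.CoxeterGeom
  Cfsg.Agent.ChevalleyStructure.CoxeterGeomTypes Cfsg.Agent.ChevalleyStructure.NPerm
open Cfsg.Agent.Tits.Roots Cfsg.Agent.Tits.Core Cfsg.Agent.Nodes Cfsg.Agent.Nodes.Reps Cfsg.Agent.Nodes.BNOf
  Cfsg.Agent.Nodes.RGDChev Cfsg.Agent.Nodes.Bruhat Cfsg.Agent.Nodes.SubComb Cfsg.Agent.Nodes.Coroot
open Cfsg.Agent.KFacts.RgdField Cfsg.Agent.KFacts.RgdChevCoord Cfsg.Agent.BpExc.TorCent Cfsg.Agent.BpExc.TorChev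
open Cfsg.Agent.GpExc.Field Cfsg.Agent.BpExc.Tow Cfsg.Agent.BpExc.TowChev Cfsg.Agent.BpExc.Fr
  Cfsg.Agent.BpExc.LangFr Cfsg.Agent.LangThm Cfsg.Agent.BpExc Cfsg.Agent.H129.TorusChar Cfsg.Agent.H129.TorusMain
open Cfsg.Agent.H720.TorusReal Cfsg.Agent.Nodes.Unique
open Cfsg.Agent.H897.T5Lat (Frm bf bf_apply)
open scoped commutatorElement

universe u v

/-! ### the number of fixed points in a root group -/

/-- the solutions of `c x ^ q = x` -/
theorem exists_sol {k : Type u} [Field k] [IsAlgClosed k] (p n : ℕ) [Fact p.Prime] [CharP k p] (hn : 0 < n) {c : k}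
    (hc : c ≠ 0) : ∃ s : Finset k, s.card = p ^ n ∧ ∀ x ∈ s, c * x ^ p ^ n = x := by
  classical
  have hq : 1 < p ^ n := Nat.one_lt_pow hn.ne' (Fact.out : p.Prime).one_lt
  let P : Polynomial k := Polynomial.C c * Polynomial.X ^ p ^ n - Polynomial.X
  have hdeg : P.natDegree = p ^ n := by
    have h1 : (Polynomial.C c * Polynomial.X ^ p ^ n : Polynomial k).natDegree = p ^ n :=
      Polynomial.natDegree_C_mul_X_pow _ _ hc
    rw [Polynomial.natDegree_sub_eq_left_of_natDegree_lt]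
    · exact h1
    · rw [h1, Polynomial.natDegree_X]
      exact hq
  have hP0 : P ≠ 0 := by
    intro h0
    rw [h0, Polynomial.natDegree_zero] at hdeg
    omega
  have hder : Polynomial.derivative P = -1 := by
    have h1 : ((p ^ n : ℕ) : k) = 0 := by
      rw [Nat.cast_pow, CharP.cast_eq_zero, zero_pow hn.ne']
    simp [P, Polynomial.derivative_X_pow]
    right
    exact hn.ne'
  have hsep : P.Separable := by
    rw [Polynomial.Separable, hder]
    exact isCoprime_one_right.neg_right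
  have hcard : P.roots.card = P.natDegree := Polynomial.splits_iff_card_roots.1 (IsAlgClosed.splits P)
  have hnodup : P.roots.Nodup := Polynomial.nodup_roots hsep
  refine ⟨P.roots.toFinset, ?_, fun x hx => ?_⟩
  · rw [Multiset.toFinset_card_of_nodup hnodup, hcard, hdeg]
  · rw [Multiset.mem_toFinset, Polynomial.mem_roots hP0] at hx
    have h1 : P.eval x = 0 := hx
    simp only [P, Polynomial.eval_sub, Polynomial.eval_mul, Polynomial.eval_C, Polynomial.eval_pow,
      Polynomial.eval_X] at h1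
    exact sub_eq_zero.1 h1

section

variable {D : ChevalleyDatum} {l : ℕ} {M : CoxeterMatrix (Fin l)} (hp : IsType D l M) {k : Type u} [Field k]
  [IsAlgClosed k] {W : Type v} [Group W] [Finite W] (cs : CoxeterSystem M W) (hk : LocFin k) {p e : ℕ} [Fact p.Prime]
  [CharP k p] {τ : MulAut ↥(D.group k)} {g : (Fin l → ℤ) ≃+ (Fin l → ℤ)}

theorem card_root (he : 0 < e) (hτ : IsFrob p e τ) (F : Fr cs hp.isCartan (TT D k) (XX D l k) τ g)
    {a : Fin l → ℤ} (ha : IsRoot cs hp.isCartan a) (hga : g a = a) :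
    ∃ s : Finset ↥(D.group k), s.card = p ^ e ∧ ∀ y ∈ s, y ∈ XX D l k a ∧ τ y = y := by
  classical
  obtain ⟨c, hc, h1⟩ := HX.fr_xc hp cs hτ F ha
  obtain ⟨s, hs, h2⟩ := exists_sol p e he hc
  obtain ⟨r, hr, rfl⟩ := (isRoot_iff hp cs a).1 ha
  refine ⟨s.image (xc hp (vec D l r)), ?_, ?_⟩
  · rw [Finset.card_image_of_injective _ (xc_inj hp hr), hs]
  · intro y hy
    rw [Finset.mem_image] at hy
    obtain ⟨x, hx, rfl⟩ := hy
    refine ⟨(HX.mem_XX_xc hp hr).2 ⟨x, rfl⟩, ?_⟩
    rw [h1, hga, h2 x hx]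

/-! ### commutators -/

include cs hk in
/-- commutators of elements of root groups -/
theorem comm_mem (p : ℕ) [Fact p.Prime] [CharP k p] {x y : Fin l → ℤ} (hx : IsRoot cs hp.isCartan x)
    (hy : IsRoot cs hp.isCartan y) (hxy : x ≠ y) (hxy' : x ≠ -y) {S : Set (Fin l → ℤ)}
    (hS : ∀ z, Btwn cs hp.isCartan x y z → z ∈ S) {a b : ↥(D.group k)} (ha : a ∈ XX D l k x) (hb : b ∈ XX D l k y) :
    ⁅a, b⁆ ∈ RGD.Sup (XX D l k) S := by
  have H := tow hp cs hk p
  rw [← XL_eq hp hk] at ha hb ⊢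
  obtain ⟨j1, h1⟩ := H.mem_XL.1 ha
  obtain ⟨j2, h2⟩ := H.mem_XL.1 hb
  obtain ⟨j, a1, a2⟩ := H.dir j1 j2
  have h3 := (H.rgd j).comm x y hx hy hxy hxy' a (H.monoX x a1 h1) b (H.monoX y a2 h2)
  exact Sup_le_SupL j S ((H.rgd j).btw_le_Sup hS h3)

include cs in
/-- root groups are abelian -/
theorem comm_root {x : Fin l → ℤ} (hx : IsRoot cs hp.isCartan x) {a b : ↥(D.group k)} (ha : a ∈ XX D l k x)
    (hb : b ∈ XX D l k x) : a * b = b * a := by
  obtain ⟨r, hr, rfl⟩ := (isRoot_iff hp cs x).1 hx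
  obtain ⟨s, rfl⟩ := (HX.mem_XX_xc hp hr).1 ha
  obtain ⟨t, rfl⟩ := (HX.mem_XX_xc hp hr).1 hb
  apply Subtype.ext
  rw [Subgroup.coe_mul, Subgroup.coe_mul, coe_xc hp hr, coe_xc hp hr, xG_add, xG_add, add_comm]

omit [IsAlgClosed k] [Finite W] in
theorem closed_single {I W : Type*} [Fintype I] [DecidableEq I] [Group W] {M : CoxeterMatrix I}
    {cs : CoxeterSystem M W} {A : I → I → ℤ} {h : IsCartan M A} {x : I → ℤ} (hx : IsRoot cs h x) :
    Closed cs h {x} := by
  intro y hy z hz u hu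
  rw [Set.mem_singleton_iff] at hy hz ⊢
  subst hy
  subst hz
  exact btwn_self hx hu

theorem inf_bot {I W Y : Type*} [Fintype I] [DecidableEq I] [Group W] [Group Y] {M : CoxeterMatrix I}
    {cs : CoxeterSystem M W} {A : I → I → ℤ} {h : IsCartan M A} {p : ℕ} {T : Subgroup Y} {n : I → Y}
    {X : (I → ℤ) → Subgroup Y} (Rd : RGD cs h p T n X) [Finite W] {x : I → ℤ} (hx : x ∈ RGD.Pos cs h)
    {S : Set (I → ℤ)} (hS : S ⊆ RGD.Pos cs h) (hc : Closed cs h S) (hxS : x ∉ S) {a : Y} (ha : a ∈ X x)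
    (ha' : a ∈ RGD.Sup X S) : a = 1 := by
  have h3 := inf_eq Rd (S := {x}) (S' := S) (Set.singleton_subset_iff.2 hx) hS (closed_single hx.1) hc
  have h4 : ({x} : Set (I → ℤ)) ∩ S = ∅ := Set.singleton_inter_eq_empty.2 hxS
  have h5 : RGD.Sup X (∅ : Set (I → ℤ)) = ⊥ := by
    rw [eq_bot_iff]
    exact RGD.Sup_le fun z hz => absurd hz (by simp)
  rw [h4, h5] at h3
  have h6 : a ∈ RGD.Sup X {x} ⊓ RGD.Sup X S :=
    Subgroup.mem_inf.2 ⟨RGD.le_Sup (S := {x}) (Set.mem_singleton x) ha, ha'⟩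
  rw [h3] at h6
  exact Subgroup.mem_bot.1 h6

include cs hk in
/-- a root group meets the group of the other roots of a closed set trivially -/
theorem root_inf (p : ℕ) [Fact p.Prime] [CharP k p] {x : Fin l → ℤ} (hx : x ∈ RGD.Pos cs hp.isCartan)
    {S : Set (Fin l → ℤ)} (hS : S ⊆ RGD.Pos cs hp.isCartan) (hc : Closed cs hp.isCartan S) (hxS : x ∉ S)
    {a : ↥(D.group k)} (ha : a ∈ XX D l k x) (ha' : a ∈ RGD.Sup (XX D l k) S) : a = 1 := by
  have H := tow hp cs hk p
  rw [← XL_eq hp hk] at ha ha'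
  obtain ⟨j1, h1⟩ := H.mem_XL.1 ha
  obtain ⟨j2, h2⟩ := H.mem_Sup.1 ha'
  obtain ⟨j, a1, a2⟩ := H.dir j1 j2
  exact inf_bot (H.rgd j) hx hS hc hxS (H.monoX x a1 h1) (H.mono_Sup S a2 h2)

end

/-! ### roots strictly between two roots, simply laced case -/

section Laced

variable {I W : Type*} [Fintype I] [DecidableEq I] [Group W] [Finite W] {M : CoxeterMatrix I}
  {cs : CoxeterSystem M W} {A : I → I → ℤ} {h : IsCartan M A} {B : LinearMap.BilinForm ℤ (I → ℤ)} (F : Frm cs h B)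

include F

theorem form_le {x y : I → ℤ} (hx : IsRoot cs h x) (hy : IsRoot cs h y) (hxy : x ≠ y) : B x y ≤ 1 := by
  have h1 := F.norm_sub_smul x y 1
  rw [F.self hx, F.self hy, one_smul] at h1
  have h2 := F.pos (x - y) (sub_ne_zero.2 hxy)
  omega

theorem btwn_add {x y z : I → ℤ} (hx : x ∈ RGD.Pos cs h) (hy : y ∈ RGD.Pos cs h) (hxy : x ≠ y) (hz : Btwn cs h x y z) :
    z = x + y := by
  have hzx := btwn_ne_left hx.1 hy.1 hx.2 hy.2 hxy hz
  have hzy := btwn_ne_right hx.1 hy.1 hx.2 hy.2 hxy hz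
  obtain ⟨hzr, m, a, b, hm, ha, hb, he⟩ := hz
  have hxy' : x ≠ -y := by
    intro he
    have h0 := hx.2
    rw [he] at h0
    exact hy.1.neg.not_pos_neg h0 (neg_nonpos.2 hy.2)
  have h1 : m * B z x = a * 2 + b * B x y := by
    have := congrArg (fun v => B v x) he
    simp only [map_smul, map_add, LinearMap.smul_apply, LinearMap.add_apply, smul_eq_mul] at this
    rw [F.self hx.1, F.symm y x] at this
    exact this
  have h2 : m * B z y = a * B x y + b * 2 := by
    have := congrArg (fun v => B v y) he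
    simp only [map_smul, map_add, LinearMap.smul_apply, LinearMap.add_apply, smul_eq_mul] at this
    rw [F.self hy.1] at this
    exact this
  have h3 : m * 2 = a * B z x + b * B z y := by
    have := congrArg (fun v => B z v) he
    simp only [map_smul, map_add, smul_eq_mul] at this
    rw [F.self hzr] at this
    exact this
  have h4 : B z x ≤ 1 := form_le F hzr hx.1 hzx
  have h5 : B z y ≤ 1 := form_le F hzr hy.1 hzy
  have h6 := F.sl x y hx.1 hy.1 hxy hxy'
  rw [← F.cpr x y hy.1, abs_le] at h6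
  -- `B x y = -1`, `a = b = m`
  have h7 : a * B z x ≤ a := by nlinarith
  have h8 : b * B z y ≤ b := by nlinarith
  have h9 : m * B z x ≤ m := by nlinarith
  have h10 : m * B z y ≤ m := by nlinarith
  have h11 : B x y = -1 := by
    rcases h6 with ⟨h61, h62⟩
    have : B x y = -1 ∨ B x y = 0 ∨ B x y = 1 := by omega
    rcases this with h | h | h
    · exact h
    · rw [h] at h1 h2; omega
    · rw [h] at h1 h2; omega
  rw [h11] at h1 h2
  have h12 : a = m ∧ b = m := by constructor <;> omega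
  have h13 : m • z = m • (x + y) := by rw [he, smul_add, h12.1, h12.2]
  have h14 : m ≠ 0 := hm.ne'
  funext i
  have h15 := congrFun h13 i
  simp only [Pi.smul_apply, smul_eq_mul] at h15
  exact mul_left_cancel₀ h14 h15

/-- closed sets of positive roots -/
theorem closed_of_add {S : Set (I → ℤ)} (hS : S ⊆ RGD.Pos cs h)
    (hc : ∀ x ∈ S, ∀ y ∈ S, IsRoot cs h (x + y) → x + y ∈ S) : Closed cs h S := by
  intro x hx y hy z hz
  by_cases hxy : x = y
  · subst hxy
    rw [btwn_self (hS hx).1 hz]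
    exact hx
  · have h1 := btwn_add F (hS hx) (hS hy) hxy hz
    have h2 := hz.1
    rw [h1] at h2 ⊢
    exact hc x hx y hy h2

end Laced

/-! ### group theory -/

section Grp

variable {Y : Type*} [Group Y]

theorem comm_sup {K' : Subgroup Y} {ι : Type*} (A : ι → Subgroup Y)
    (hn : ∀ i, ∀ a ∈ A i, ∀ b ∈ K', a * b * a⁻¹ ∈ K') (h : ∀ i j, ∀ a ∈ A i, ∀ b ∈ A j, ⁅a, b⁆ ∈ K') :
    (∀ a ∈ ⨆ i, A i, ∀ b ∈ K', a * b * a⁻¹ ∈ K') ∧ ∀ a ∈ ⨆ i, A i, ∀ b ∈ ⨆ i, A i, ⁅a, b⁆ ∈ K' := by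
  have hn' : ∀ a ∈ ⨆ i, A i, ∀ b ∈ K', a * b * a⁻¹ ∈ K' := by
    intro a ha
    induction ha using Subgroup.iSup_induction' with
    | hp i a ha => exact hn i a ha
    | h1 => intro b hb; rw [one_mul, inv_one, mul_one]; exact hb
    | hmul x y _ _ h1 h2 =>
      intro b hb
      have := h1 _ (h2 b hb)
      have e : x * y * b * (x * y)⁻¹ = x * (y * b * y⁻¹) * x⁻¹ := by group
      rwa [e]
  refine ⟨hn', ?_⟩
  have h1 : ∀ a ∈ ⨆ i, A i, ∀ j, ∀ b ∈ A j, ⁅a, b⁆ ∈ K' := by
    intro a ha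
    induction ha using Subgroup.iSup_induction' with
    | hp i a ha => exact fun j b hb => h i j a ha b hb
    | h1 => intro j b hb; rw [commutatorElement_one_left]; exact one_mem _
    | hmul x y hx _ h1 h2 =>
      intro j b hb
      have e : ⁅x * y, b⁆ = x * ⁅y, b⁆ * x⁻¹ * ⁅x, b⁆ := by rw [commutatorElement_def, commutatorElement_def, commutatorElement_def]; group
      rw [e]
      exact mul_mem (hn' x hx _ (h2 j b hb)) (h1 j b hb)
  intro a ha b hb
  induction hb using Subgroup.iSup_induction' with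
  | hp j b hb => exact h1 a ha j b hb
  | h1 => rw [commutatorElement_one_right]; exact one_mem _
  | hmul x y hx _ h1 h2 =>
    have e : ⁅a, x * y⁆ = ⁅a, x⁆ * (x * ⁅a, y⁆ * x⁻¹) := by rw [commutatorElement_def, commutatorElement_def, commutatorElement_def]; group
    rw [e]
    exact mul_mem h1 (hn' x hx _ h2)

/-- `x τ(x) ⋯ τ^(n-1)(x)` -/
def pr (τ : MulAut Y) (x : Y) : ℕ → Y
  | 0 => 1
  | n + 1 => x * τ (pr τ x n)

theorem pr_succ (τ : MulAut Y) (x : Y) (n : ℕ) : pr τ x (n + 1) = pr τ x n * (τ ^ n) x := by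
  induction n with
  | zero => simp [pr]
  | succ n ih =>
    have h1 : pr τ x (n + 2) = x * τ (pr τ x (n + 1)) := rfl
    rw [h1, ih, map_mul, ← mul_assoc]
    have h2 : x * τ (pr τ x n) = pr τ x (n + 1) := rfl
    rw [h2, ih, pow_succ', MulAut.mul_apply]

theorem pr_mem (τ : MulAut Y) (x : Y) {Q : Subgroup Y} : ∀ n : ℕ, (∀ j < n, (τ ^ j) x ∈ Q) → pr τ x n ∈ Q := by
  intro n
  induction n with
  | zero => intro _; exact one_mem _
  | succ n ih =>
    intro h
    rw [pr_succ]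
    exact mul_mem (ih fun j hj => h j (by omega)) (h n (by omega))

theorem pr_tail (τ : MulAut Y) (x : Y) {Q : Subgroup Y} (n : ℕ) (h : ∀ j, 0 < j → j < n + 1 → (τ ^ j) x ∈ Q) :
    ∃ w ∈ Q, pr τ x (n + 1) = x * w := by
  induction n with
  | zero => exact ⟨1, one_mem _, by simp [pr]⟩
  | succ n ih =>
    obtain ⟨w, hw, e⟩ := ih fun j h1 h2 => h j h1 (by omega)
    exact ⟨w * (τ ^ (n + 1)) x, mul_mem hw (h _ (by omega) (by omega)), by rw [pr_succ, e, mul_assoc]⟩

end Grp

/-! ### the main lemma -/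

section Main

variable {D : ChevalleyDatum} {l : ℕ} {M : CoxeterMatrix (Fin l)} (hp : IsType D l M) {k : Type u} [Field k]
  [IsAlgClosed k] {W : Type v} [Group W] [Finite W] (cs : CoxeterSystem M W) (hk : LocFin k) {p e : ℕ} [Fact p.Prime]
  [CharP k p] {τ : MulAut ↥(D.group k)} {g : (Fin l → ℤ) ≃+ (Fin l → ℤ)}
  (Fm : Frm cs hp.isCartan (bf (cartanOf D l)))

include hk Fm in
/-- **Fixed points in a closed invariant set of root groups.** -/
theorem lemU (he : 0 < e) (hτ : IsFrob p e τ) (F : Fr cs hp.isCartan (TT D k) (XX D l k) τ g) :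
    ∀ (n : ℕ) (S : Set (Fin l → ℤ)), S.ncard = n → S ⊆ RGD.Pos cs hp.isCartan → Closed cs hp.isCartan S →
      (∀ a ∈ S, g a ∈ S) → ∃ s : Finset ↥(D.group k), s.card = (p ^ e) ^ n ∧
        ∀ y ∈ s, y ∈ RGD.Sup (XX D l k) S ∧ τ y = y := by
  classical
  intro n
  induction n using Nat.strong_induction_on with
  | _ n ih =>
  intro S hn hS hc hg
  have hSf : S.Finite := (RGD.finite_roots (cs := cs) (h := hp.isCartan)).subset fun _ hx => (hS hx).1
  rcases Nat.eq_zero_or_pos n with h0 | h0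
  · subst h0
    exact ⟨{1}, by simp, fun y hy => by
      rw [Finset.mem_singleton] at hy
      subst hy
      exact ⟨one_mem _, map_one τ⟩⟩
  have hne : S.Nonempty := by
    rw [← Set.ncard_pos hSf, hn]
    exact h0
  obtain ⟨m0, hm0, hper⟩ := exists_period' hp cs F
  have hgi : ∀ j : ℕ, ∀ a ∈ S, g^[j] a ∈ S := by
    intro j
    induction j with
    | zero => exact fun a ha => ha
    | succ j ihj =>
      intro a ha
      rw [Function.iterate_succ_apply']
      exact hg _ (ihj a ha)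
  -- the height
  let H : (Fin l → ℤ) → ℤ := fun a => ∑ j ∈ Finset.range m0, ht (g^[j] a)
  have hHadd : ∀ x y, H (x + y) = H x + H y := by
    intro x y
    show ∑ j ∈ Finset.range m0, ht (g^[j] (x + y)) = _
    rw [← Finset.sum_add_distrib]
    refine Finset.sum_congr rfl fun j _ => ?_
    rw [iterate_map_add, RGD.ht_add]
  have hHg : ∀ x, H (g x) = H x := by
    intro x
    show ∑ j ∈ Finset.range m0, ht (g^[j] (g x)) = ∑ j ∈ Finset.range m0, ht (g^[j] x)
    have h1 : ∀ j, g^[j] (g x) = g^[j + 1] x := fun j => (Function.iterate_succ_apply g j x).symm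
    simp only [h1]
    have h2 := Finset.sum_range_succ (fun j => ht (g^[j] x)) m0
    have h3 := Finset.sum_range_succ' (fun j => ht (g^[j] x)) m0
    rw [h2, hper] at h3
    have h4 : ht (g^[0] x) = ht x := rfl
    rw [h4] at h3
    exact (add_right_cancel h3).symm
  have hHpos : ∀ x ∈ S, 0 < H x := fun x hx =>
    Finset.sum_pos (fun j _ => RGD.ht_pos (hS (hgi j x hx)).1 (hS (hgi j x hx)).2)
      ⟨0, Finset.mem_range.2 hm0⟩
  obtain ⟨α, hα, hmin⟩ := Set.exists_min_image S H hSf hne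
  have hHi : ∀ j, H (g^[j] α) = H α := by
    intro j
    induction j with
    | zero => rfl
    | succ j ihj => rw [Function.iterate_succ_apply', hHg, ihj]
  -- the orbit
  set m := Function.minimalPeriod g α with hm
  have hperm : Function.IsPeriodicPt g m0 α := hper α
  have hmpos : 0 < m := hperm.minimalPeriod_pos hm0
  have hgm : g^[m] α = α := Function.iterate_minimalPeriod
  set O : Finset (Fin l → ℤ) := (Finset.range m).image (fun j => g^[j] α) with hO
  have hOcard : O.card = m := by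
    rw [hO, Finset.card_image_of_injOn, Finset.card_range]
    intro i hi j hj hij
    exact Function.iterate_injOn_Iio_minimalPeriod (Finset.mem_range.1 (Finset.mem_coe.1 hi))
      (Finset.mem_range.1 (Finset.mem_coe.1 hj)) hij
  have hmemO : ∀ j, g^[j] α ∈ O := by
    intro j
    rw [hO, Finset.mem_image]
    exact ⟨j % m, Finset.mem_range.2 (Nat.mod_lt _ hmpos), Function.iterate_mod_minimalPeriod_eq⟩
  have hOS : (O : Set (Fin l → ℤ)) ⊆ S := by
    intro a ha
    rw [Finset.mem_coe, hO, Finset.mem_image] at ha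
    obtain ⟨j, -, rfl⟩ := ha
    exact hgi j α hα
  have hHO : ∀ a ∈ O, H a = H α := by
    intro a ha
    rw [hO, Finset.mem_image] at ha
    obtain ⟨j, -, rfl⟩ := ha
    exact hHi j
  have hαO : α ∈ O := hmemO 0
  set S' : Set (Fin l → ℤ) := S \ O with hS'
  have hS'S : S' ⊆ S := Set.sdiff_subset
  have hS'n : S'.ncard = n - m := by
    rw [hS', Set.ncard_sdiff hOS (Finset.finite_toSet O), Set.ncard_coe_finset, hOcard, hn]
  have hmn : m ≤ n := by
    rw [← hOcard, ← hn, ← Set.ncard_coe_finset]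
    exact Set.ncard_le_ncard hOS hSf
  have hbt : ∀ x ∈ S, ∀ y ∈ S, x ≠ y → ∀ z, Btwn cs hp.isCartan x y z → z ∈ S' := by
    intro x hx y hy hxy z hz
    refine ⟨hc x hx y hy z hz, fun hzO => ?_⟩
    have h1 := btwn_add Fm (hS hx) (hS hy) hxy hz
    have h2 := hHO z hzO
    rw [h1, hHadd] at h2
    have h3 := hmin x hx
    have h4 := hHpos y hy
    omega
  have hc' : Closed cs hp.isCartan S' := by
    intro x hx y hy z hz
    by_cases hxy : x = y
    · subst hxy
      rw [btwn_self (hS (hS'S hx)).1 hz]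
      exact hx
    · exact hbt x (hS'S hx) y (hS'S hy) hxy z hz
  have hg' : ∀ a ∈ S', g a ∈ S' := by
    intro a ha
    refine ⟨hg a ha.1, fun hO' => ha.2 ?_⟩
    rw [Finset.mem_coe, hO, Finset.mem_image] at hO'
    obtain ⟨j, -, hj⟩ := hO'
    have h1 : g^[m0] a = a := hper a
    have h2 : g^[m0] a = g^[m0 - 1 + j] α := by
      rw [Function.iterate_add_apply, hj, ← Function.iterate_succ_apply]
      congr 1
      congr 1
      omega
    rw [← h1, h2]
    exact hmemO _
  -- the groups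
  set K' := RGD.Sup (XX D l k) S' with hK'
  obtain ⟨hnorm, hcomm⟩ := comm_sup (K' := K') (fun z : S => XX D l k z.1) (by
    rintro ⟨x, hx⟩ a ha
    have hx' := hS hx
    show ∀ b ∈ K', a * b * a⁻¹ ∈ K'
    intro b hb
    have h1 : K' ≤ K'.comap (MulAut.conj a).toMonoidHom := by
      refine RGD.Sup_le fun y hy => ?_
      intro b hb
      show a * b * a⁻¹ ∈ K'
      by_cases hxy : x = y
      · subst hxy
        have h2 := comm_root hp cs hx'.1 ha hb
        rw [h2, mul_inv_cancel_right]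
        exact RGD.le_Sup hy hb
      · have hxy' : x ≠ -y := by
          intro he
          have h0 := hx'.2
          rw [he] at h0
          exact (hS (hS'S hy)).1.neg.not_pos_neg h0 (neg_nonpos.2 (hS (hS'S hy)).2)
        have h2 := comm_mem hp cs hk p hx'.1 (hS (hS'S hy)).1 hxy hxy'
          (fun z hz => hbt x hx y (hS'S hy) hxy z hz) ha hb
        have h3 : a * b * a⁻¹ = ⁅a, b⁆ * b := by rw [commutatorElement_def]; group
        rw [h3]
        exact mul_mem h2 (RGD.le_Sup hy hb)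
    exact h1 hb) (by
    rintro ⟨x, hx⟩ ⟨y, hy⟩ a ha b hb
    by_cases hxy : x = y
    · subst hxy
      have h2 := comm_root hp cs (hS hx).1 ha hb
      rw [commutatorElement_def, h2, mul_inv_cancel_right, mul_inv_cancel]
      exact one_mem _
    · have hxy' : x ≠ -y := by
        intro he
        have h0 := (hS hx).2
        rw [he] at h0
        exact (hS hy).1.neg.not_pos_neg h0 (neg_nonpos.2 (hS hy).2)
      exact comm_mem hp cs hk p (hS hx).1 (hS hy).1 hxy hxy' (fun z hz => hbt x hx y hy hxy z hz) ha hb)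
  have hKd : (⨆ z : S, XX D l k z.1) = RGD.Sup (XX D l k) S := rfl
  rw [hKd] at hnorm hcomm
  -- fixed points of `τ ^ m` in the root group of `α`
  obtain ⟨gm, Fgm, hgm'⟩ := F.pow m
  obtain ⟨s1, hs1, h1⟩ := card_root hp cs (e := m * e) (Nat.mul_pos hmpos he) (hτ.pow m) Fgm (hS hα).1
    (by rw [hgm', hgm])
  obtain ⟨s2, hs2, h2⟩ := ih (n - m) (by omega) S' hS'n (hS'S.trans hS) hc' hg'
  have hτj : ∀ j, ∀ x ∈ XX D l k α, (τ ^ j) x ∈ XX D l k (g^[j] α) := by
    intro j x hx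
    obtain ⟨gj, Fgj, hgj⟩ := F.pow j
    rw [← hgj]
    exact (Fgj.map α (hS hα).1 x).2 hx
  -- the lift
  have hlift : ∀ x ∈ s1, ∃ a ∈ K', τ (pr τ x m * a⁻¹) = pr τ x m * a⁻¹ := by
    intro x hx
    obtain ⟨hx1, hx2⟩ := h1 x hx
    have e1 : x * τ (pr τ x m) = pr τ x m * x := by
      have e2 := pr_succ τ x m
      rw [hx2] at e2
      exact e2
    have hprK : pr τ x m ∈ RGD.Sup (XX D l k) S :=
      pr_mem τ x m fun j _ => RGD.le_Sup (hgi j α hα) (hτj j x hx1)
    have hxK : x ∈ RGD.Sup (XX D l k) S := RGD.le_Sup hα hx1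
    have e3 : (pr τ x m)⁻¹ * τ (pr τ x m) ∈ K' := by
      have e4 : τ (pr τ x m) = x⁻¹ * pr τ x m * x := by
        rw [mul_assoc, ← e1, inv_mul_cancel_left]
      have e5 := hcomm _ (inv_mem hprK) _ (inv_mem hxK)
      rw [commutatorElement_def, inv_inv, inv_inv] at e5
      rw [e4]
      have e6 : (pr τ x m)⁻¹ * (x⁻¹ * pr τ x m * x) = (pr τ x m)⁻¹ * x⁻¹ * pr τ x m * x := by group
      rw [e6]
      exact e5
    obtain ⟨a, ha, h3⟩ := lang_fr hp cs he hτ F (S := S') (fun x hx => (hS (hS'S hx)).1) hg' e3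
    refine ⟨a, ha, ?_⟩
    rw [map_mul, map_inv]
    have e7 : τ (pr τ x m) = pr τ x m * (a⁻¹ * τ a) := by rw [← h3]; group
    rw [e7]
    group
  choose! a ha using hlift
  obtain ⟨m1, hm1⟩ : ∃ m1, m = m1 + 1 := ⟨m - 1, by omega⟩
  -- injectivity
  have hSα : Closed cs hp.isCartan (S \ {α}) := by
    intro x hx y hy z hz
    by_cases hxy : x = y
    · subst hxy
      rw [btwn_self (hS hx.1).1 hz]
      exact hx
    · have h3 := hbt x hx.1 y hy.1 hxy z hz
      refine ⟨h3.1, fun h4 => h3.2 ?_⟩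
      rw [Set.mem_singleton_iff] at h4
      rw [h4]
      exact hαO
  have hK'α : K' ≤ RGD.Sup (XX D l k) (S \ {α}) := RGD.Sup_mono fun z hz =>
    ⟨hz.1, fun h4 => hz.2 (by rw [Set.mem_singleton_iff] at h4; rw [h4]; exact hαO)⟩
  have htail : ∀ x ∈ s1, ∃ w ∈ RGD.Sup (XX D l k) (S \ {α}), pr τ x m = x * w := by
    intro x hx
    obtain ⟨hx1, hx2⟩ := h1 x hx
    rw [hm1]
    refine pr_tail τ x m1 fun j hj1 hj2 => ?_
    refine RGD.le_Sup (S := S \ {α}) ⟨hgi j α hα, fun h4 => ?_⟩ (hτj j x hx1)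
    rw [Set.mem_singleton_iff] at h4
    have h5 : Function.minimalPeriod g α ∣ j := Function.IsPeriodicPt.minimalPeriod_dvd h4
    have h6 := Nat.le_of_dvd hj1 h5
    omega
  have hinj : Set.InjOn (fun q : ↥(D.group k) × ↥(D.group k) => pr τ q.1 m * (a q.1)⁻¹ * q.2)
      ((s1 ×ˢ s2 : Finset _) : Set _) := by
    rintro ⟨x, b⟩ hx ⟨x', b'⟩ hx' he'
    rw [Finset.mem_coe, Finset.mem_product] at hx hx'
    simp only at hx hx' he'
    have hb := (h2 b hx.2).1
    have hb' := (h2 b' hx'.2).1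
    have hax := (ha x hx.1).1
    have hax' := (ha x' hx'.1).1
    have e1 : (pr τ x' m)⁻¹ * pr τ x m = (a x')⁻¹ * b' * b⁻¹ * a x := by
      have : pr τ x m = pr τ x' m * ((a x')⁻¹ * b' * b⁻¹ * a x) := by
        calc pr τ x m = (pr τ x m * (a x)⁻¹ * b) * b⁻¹ * a x := by group
          _ = (pr τ x' m * (a x')⁻¹ * b') * b⁻¹ * a x := by rw [he']
          _ = _ := by group
      rw [this]
      group
    have e2 : (pr τ x' m)⁻¹ * pr τ x m ∈ RGD.Sup (XX D l k) (S \ {α}) := by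
      rw [e1]
      exact hK'α (mul_mem (mul_mem (mul_mem (inv_mem hax') hb') (inv_mem hb)) hax)
    obtain ⟨w, hw, ew⟩ := htail x hx.1
    obtain ⟨w', hw', ew'⟩ := htail x' hx'.1
    have e3 : x'⁻¹ * x ∈ RGD.Sup (XX D l k) (S \ {α}) := by
      have : x'⁻¹ * x = w' * ((pr τ x' m)⁻¹ * pr τ x m) * w⁻¹ := by rw [ew, ew']; group
      rw [this]
      exact mul_mem (mul_mem hw' e2) (inv_mem hw)
    have e4 : x'⁻¹ * x = 1 := root_inf hp cs hk p (hS hα) (fun z hz => hS hz.1) hSα (fun h4 => h4.2 rfl)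
      (mul_mem (inv_mem (h1 x' hx'.1).1) (h1 x hx.1).1) e3
    have e5 : x = x' := (inv_mul_eq_one.1 e4).symm
    subst e5
    simp only [Prod.mk.injEq, true_and]
    exact mul_left_cancel he'
  refine ⟨(s1 ×ˢ s2).image (fun q : ↥(D.group k) × ↥(D.group k) => pr τ q.1 m * (a q.1)⁻¹ * q.2), ?_, ?_⟩
  · rw [Finset.card_image_of_injOn hinj, Finset.card_product, hs1, hs2, mul_comm m e, pow_mul, ← pow_add]
    congr 1
    omega
  · intro y hy
    rw [Finset.mem_image] at hy
    obtain ⟨⟨x, b⟩, hxb, rfl⟩ := hy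
    rw [Finset.mem_product] at hxb
    obtain ⟨hx, hb⟩ := hxb
    simp only at hx hb ⊢
    have hprK : pr τ x m ∈ RGD.Sup (XX D l k) S :=
      pr_mem τ x m fun j _ => RGD.le_Sup (hgi j α hα) (hτj j x (h1 x hx).1)
    have hK'K : K' ≤ RGD.Sup (XX D l k) S := RGD.Sup_mono hS'S
    refine ⟨mul_mem (mul_mem hprK (inv_mem (hK'K (ha x hx).1))) (hK'K (h2 b hb).1), ?_⟩
    rw [map_mul, (ha x hx).2, (h2 b hb).2]

end Main

end Cfsg.Agent.H942.CB
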