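import Mathlib
import Cfsg.Agent.H942.CB.LemU
import Cfsg.Agent.H378.TorFin

/-!
# Lower bounds for the number of fixed points in centralisers of torus elements
-/

set_option autoImplicit false
set_option linter.unusedSectionVars false

namespace Cfsg.Agent.H942.CB

open CoxeterSystem Cfsg Cfsg.Lie Cfsg.Lie.ChevalleyDatum
open Cfsg.Agent.ChevalleyStructure Cfsg.Agent.ChevalleyStructure.Elts Cfsg.Agent.ChevalleyStructure.CoxeterGeom
  Cfsg.Agent.ChevalleyStructure.CoxeterGeomTypes Cfsg.Agent.ChevalleyStructure.NPerm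
open Cfsg.Agent.Tits.Roots Cfsg.Agent.Tits.Core Cfsg.Agent.Nodes Cfsg.Agent.Nodes.Reps Cfsg.Agent.Nodes.BNOf
  Cfsg.Agent.Nodes.RGDChev Cfsg.Agent.Nodes.Bruhat Cfsg.Agent.Nodes.SubComb Cfsg.Agent.Nodes.Coroot
  Cfsg.Agent.Nodes.NormalForm
open Cfsg.Agent.KFacts.RgdField Cfsg.Agent.KFacts.RgdChevCoord Cfsg.Agent.BpExc.TorCent Cfsg.Agent.BpExc.TorChev
open Cfsg.Agent.GpExc.Field Cfsg.Agent.BpExc.Tow Cfsg.Agent.BpExc.TowChev Cfsg.Agent.BpExc.Fr
  Cfsg.Agent.BpExc.LangFr Cfsg.Agent.LangThm Cfsg.Agent.BpExc Cfsg.Agent.H129.TorusChar Cfsg.Agent.H129.TorusMain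
open Cfsg.Agent.H720.TorusReal Cfsg.Agent.Nodes.Unique Cfsg.Agent.H897.T5Cent
open Cfsg.Agent.H897.T5Lat (Frm bf bf_apply)
open scoped commutatorElement

universe u v

section

variable {D : ChevalleyDatum} {l : ℕ} {M : CoxeterMatrix (Fin l)} (hp : IsType D l M) {k : Type u} [Field k]
  [IsAlgClosed k] {W : Type v} [Group W] [Finite W] (cs : CoxeterSystem M W) (hk : LocFin k) {p e : ℕ} [Fact p.Prime]
  [CharP k p] {τ : MulAut ↥(D.group k)} {g : (Fin l → ℤ) ≃+ (Fin l → ℤ)}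

/-! ### primitive roots of composite order -/

/-- a primitive root of unity -/
theorem exists_prim' (p : ℕ) [Fact p.Prime] [CharP k p] {N : ℕ} (hN0 : N ≠ 0) (hN : N.Coprime p) :
    ∃ ζ : k, IsPrimitiveRoot ζ N := by
  have hNk : ((N : ℕ) : k) ≠ 0 := by
    intro h0
    have h1 : p ∣ N := (CharP.cast_eq_zero_iff k p N).1 h0
    have h2 : p ∣ 1 := by
      rw [← hN]
      exact Nat.dvd_gcd h1 dvd_rfl
    exact (Fact.out : p.Prime).one_lt.ne' (Nat.dvd_one.1 h2)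
  have : NeZero ((N : ℕ) : k) := ⟨hNk⟩
  have : NeZero N := ⟨hN0⟩
  exact HasEnoughRootsOfUnity.exists_primitiveRoot k N

/-! ### the torus -/

include cs hk in
/-- **Fixed points in the torus.** -/
theorem lemT (hτ : IsFrob p e τ) (F : Fr cs hp.isCartan (TT D k) (XX D l k) τ g) {d' : ℕ}
    {B' : Fin l → Fin l → ℤ} (hB : InvC D l d' B') (hd' : d' ≠ 0) (d : Fin l → ℕ) (hd0 : ∀ i, d i ≠ 0)
    (hdp : ∀ i, (d i).Coprime p) (U f : Fin l → Fin l → ℤ)
    (hUf : ∀ i j, ∑ m, U i m * f j m = if i = j then 1 else 0)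
    (hU : ∀ i m, (d i : ℤ) ∣ ∑ j, U i j * (g (sr m) - ((p ^ e : ℕ) : ℤ) • (sr m : Fin l → ℤ)) j) :
    ∃ s : Finset ↥(D.group k), s.card = ∏ i, d i ∧ ∀ t ∈ s, t ∈ TT D k ∧ τ t = t := by
  classical
  have hζ : ∀ i, ∃ ζ : k, IsPrimitiveRoot ζ (d i) := fun i => exists_prim' p (hd0 i) (hdp i)
  choose ζ hζ using hζ
  have hζ0 : ∀ i, ζ i ≠ 0 := fun i => (hζ i).ne_zero (hd0 i)
  let ℓ : Fin l → (Fin l → ℤ) →+ ℤ := fun i => AddMonoidHom.mk' (fun x => ∑ j, U i j * x j) (by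
    intro x y
    simp only [Pi.add_apply, mul_add, Finset.sum_add_distrib])
  have hℓ : ∀ i x, ℓ i x = ∑ j, U i j * x j := fun _ _ => rfl
  -- the functional modulo `d i`
  have hℓg : ∀ i x, (d i : ℤ) ∣ ℓ i (g x - ((p ^ e : ℕ) : ℤ) • x) := by
    intro i x
    have h1 : g x - ((p ^ e : ℕ) : ℤ) • x = ∑ m, x m • (g (sr m) - ((p ^ e : ℕ) : ℤ) • (sr m : Fin l → ℤ)) := by
      conv_lhs => rw [IsMC.eq_sum_sr x]
      rw [map_sum, Finset.smul_sum, ← Finset.sum_sub_distrib]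
      refine Finset.sum_congr rfl fun m _ => ?_
      rw [map_zsmul, smul_sub, smul_comm]
    rw [h1, map_sum]
    refine Finset.dvd_sum fun m _ => ?_
    rw [map_zsmul, smul_eq_mul]
    exact Dvd.dvd.mul_left (hU i m) _
  let φ : (∀ i, Fin (d i)) → (Fin l → ℤ) → k := fun a x => ∏ i, ζ i ^ (((a i : ℕ) : ℤ) * ℓ i x)
  have hφ : ∀ a, IsMC (φ a) := by
    intro a
    refine ⟨?_, fun x y => ?_⟩
    · show ∏ i, ζ i ^ (((a i : ℕ) : ℤ) * ℓ i 0) = 1
      simp
    · show ∏ i, ζ i ^ (((a i : ℕ) : ℤ) * ℓ i (x + y)) = _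
      rw [← Finset.prod_mul_distrib]
      refine Finset.prod_congr rfl fun i _ => ?_
      rw [map_add, mul_add, zpow_add₀ (hζ0 i)]
  have hex : ∀ a, ∃ t ∈ TT D k, ∀ x, cX hp t x = φ a x := fun a =>
    exists_cX hp hB hd' (hφ a) (fun i => IsAlgClosed.exists_pow_nat_eq _ (Nat.pos_of_ne_zero hd'))
  choose t ht htφ using hex
  have hinj : Function.Injective t := by
    intro a b hab
    funext i
    have h1 : φ a (f i) = φ b (f i) := by rw [← htφ, ← htφ, hab]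
    have h2 : ∀ a : ∀ i, Fin (d i), φ a (f i) = ζ i ^ (a i : ℕ) := by
      intro a
      show ∏ j, ζ j ^ (((a j : ℕ) : ℤ) * ℓ j (f i)) = _
      rw [Finset.prod_eq_single i]
      · rw [hℓ, hUf, if_pos rfl, mul_one, zpow_natCast]
      · intro j _ hj
        rw [hℓ, hUf, if_neg hj, mul_zero, zpow_zero]
      · intro h
        exact absurd (Finset.mem_univ i) h
    rw [h2, h2] at h1
    exact Fin.ext ((hζ i).pow_inj (a i).2 (b i).2 h1)
  refine ⟨Finset.univ.image t, ?_, ?_⟩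
  · rw [Finset.card_image_of_injective _ hinj, Finset.card_univ, Fintype.card_pi]
    simp
  · intro y hy
    rw [Finset.mem_image] at hy
    obtain ⟨a, -, rfl⟩ := hy
    refine ⟨ht a, ?_⟩
    have hτt : τ (t a) ∈ TT D k := (F.tor (t a)).2 (ht a)
    refine cX_inj hp hτt (ht a) fun i => ?_
    have h1 := cX_sigma hp cs hτ F (ht a) (g.symm (sr i))
    rw [AddEquiv.apply_symm_apply] at h1
    rw [h1, htφ, htφ]
    show (∏ j, ζ j ^ (((a j : ℕ) : ℤ) * ℓ j (g.symm (sr i)))) ^ p ^ e = ∏ j, ζ j ^ (((a j : ℕ) : ℤ) * ℓ j (sr i))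
    rw [← Finset.prod_pow]
    refine Finset.prod_congr rfl fun j _ => ?_
    obtain ⟨c, hc⟩ := hℓg j (g.symm (sr i))
    rw [AddEquiv.apply_symm_apply, map_sub, map_zsmul, smul_eq_mul] at hc
    have h2 : ℓ j (sr i) = ((p ^ e : ℕ) : ℤ) * ℓ j (g.symm (sr i)) + (d j : ℤ) * c := by linarith
    rw [h2, mul_add, zpow_add₀ (hζ0 j)]
    have h3 : ζ j ^ (((a j : ℕ) : ℤ) * ((d j : ℤ) * c)) = 1 := by
      rw [mul_left_comm, zpow_mul, zpow_natCast, (hζ j).pow_eq_one, one_zpow]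
    rw [h3, mul_one, ← zpow_natCast, ← zpow_mul]
    congr 1
    ring

/-! ### the Weyl group -/

include hk in
/-- the system of the tower -/
theorem nsysT (p : ℕ) [Fact p.Prime] [CharP k p] : NSys M (TT D k) (nc hp k) := by
  have H := tow hp M.toCoxeterSystem hk p
  have h1 := H.nsys
  rwa [TL_eq hp hk] at h1

theorem rp_conv (p : ℕ) [Fact p.Prime] [CharP k p] (hN : NSys M (TT D k) (nc hp k)) {w : W} {n : ↥(D.group k)} :
    Rp cs (tow hp cs hk p).nsys w n ↔ Rp cs hN w n := by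
  have key : ∀ (T : Subgroup ↥(D.group k)) (h1 : NSys M T (nc hp k)) (_ : T = TT D k), Rp cs h1 w n ↔ Rp cs hN w n := by
    intro T h1 h2
    subst h2
    exact Iff.rfl
  exact key _ _ (TL_eq hp hk)

include hk in
/-- **Fixed representatives.** -/
theorem lemN (he : 0 < e) (hτ : IsFrob p e τ) (F : Fr cs hp.isCartan (TT D k) (XX D l k) τ g) {d' : ℕ}
    {B' : Fin l → Fin l → ℤ} (hB : InvC D l d' B') (hd' : d' ≠ 0) {hN : NSys M (TT D k) (nc hp k)} {w' : W}
    (hcomm : ∀ x, rep cs hp.isCartan w' (g x) = g (rep cs hp.isCartan w' x)) :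
    ∃ n', Rp cs hN w' n' ∧ τ n' = n' := by
  obtain ⟨n', hn'⟩ := exists_rp cs hN w'
  have F2 := fr_conj hp cs hk p hn'
  -- `c = n'⁻¹ τ(n')`
  set c := n'⁻¹ * τ n' with hc
  have hcT : c ∈ TT D k := by
    have hconj : MulAut.conj c = (MulAut.conj n')⁻¹ * (τ * (MulAut.conj n' * τ⁻¹)) := by
      apply MulEquiv.ext
      intro y
      have e1 : (MulAut.conj n')⁻¹ = MulAut.conj n'⁻¹ := (map_inv MulAut.conj n').symm
      rw [e1]
      show n'⁻¹ * τ n' * y * (n'⁻¹ * τ n')⁻¹ = n'⁻¹ * τ (n' * τ⁻¹ y * n'⁻¹) * n'⁻¹⁻¹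
      rw [map_mul, map_mul, map_inv, MulAut.apply_inv_self]
      group
    have F3 := F2.inv.mul (F.mul (F2.mul F.inv))
    rw [← hconj] at F3
    refine mem_TT_of_fr hp cs hk p hB hd' (fun x => ?_) F3
    show (repAut cs hp.isCartan w').symm (g ((repAut cs hp.isCartan w') (g.symm x))) = x
    rw [repAut_symm_apply, repAut_apply, ← hcomm, AddEquiv.apply_symm_apply, rep_inv_apply]
  obtain ⟨s, hs, h1⟩ := torus_lang hp cs he hτ F hB hd' hcT
  refine ⟨n' * s, hn'.mul_mem_right hs, ?_⟩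
  rw [map_mul]
  have e1 : τ n' = n' * c := by rw [hc]; group
  rw [e1, mul_assoc, ← h1]

/-! ### cells -/

/-- the positive roots with value 1 on `t` -/
def St (t : ↥(D.group k)) : Set (Fin l → ℤ) := {a | a ∈ RGD.Pos cs hp.isCartan ∧ cX hp t a = 1}

theorem St_pos (t : ↥(D.group k)) : St hp cs t ⊆ RGD.Pos cs hp.isCartan := fun _ h => h.1

theorem closed_St (Fm : Frm cs hp.isCartan (bf (cartanOf D l))) {t : ↥(D.group k)} (ht : t ∈ TT D k) :
    Closed cs hp.isCartan (St hp cs t) := by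
  refine closed_of_add Fm (St_pos hp cs t) fun x hx y hy hxy => ⟨⟨hxy, add_nonneg hx.1.2 hy.1.2⟩, ?_⟩
  rw [(isMC_cX hp ht).add, hx.2, hy.2, one_mul]

theorem closed_NW (w : W) : Closed cs hp.isCartan (NW cs hp.isCartan w) := fun _ hx _ hy _ hz =>
  ⟨hz.1, RGD.nonneg_of_btwn hx.2.1 hy.2.1 hz, RGD.nonpos_of_btwn hx.2.2 hy.2.2 (hz.act w)⟩

include cs hk in
/-- the root groups centralising `t` -/
theorem Sup_comm (p : ℕ) [Fact p.Prime] [CharP k p] {t : ↥(D.group k)} (ht : t ∈ TT D k) {S : Set (Fin l → ℤ)}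
    (hS : ∀ a ∈ S, IsRoot cs hp.isCartan a ∧ cX hp t a = 1) {u : ↥(D.group k)} (hu : u ∈ RGD.Sup (XX D l k) S) :
    u * t = t * u := by
  have h1 : RGD.Sup (XX D l k) S ≤ Subgroup.centralizer {t} := by
    refine RGD.Sup_le fun a ha => ?_
    intro y hy
    obtain ⟨hr, h1⟩ := hS a ha
    rw [Subgroup.mem_centralizer_singleton_iff]
    have C := coordsL hp cs hk p
    obtain ⟨x, rfl⟩ := ((C.coord a hr).mem y).1 hy
    have h2 := (C.coord a hr).act t ht x
    rw [← cX_root hp cs ht hr, h1, one_mul] at h2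
    exact (mul_inv_eq_iff_eq_mul.1 h2).symm
  exact Subgroup.mem_centralizer_singleton_iff.1 (h1 hu)

/-- the elements of the cell of `w` -/
def InCell (hN : NSys M (TT D k) (nc hp k)) (w : W) (c : ↥(D.group k)) : Prop :=
  ∃ u ∈ RGD.Sup (XX D l k) (RGD.Pos cs hp.isCartan), ∃ n, Rp cs hN w n ∧
    ∃ v ∈ RGD.Sup (XX D l k) (NW cs hp.isCartan w), c = u * n * v

include hk in
theorem nf_unique (p : ℕ) [Fact p.Prime] [CharP k p] {hN : NSys M (TT D k) (nc hp k)} {w w' : W}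
    {u u' n n' v v' : ↥(D.group k)} (hu : u ∈ RGD.Sup (XX D l k) (RGD.Pos cs hp.isCartan))
    (hu' : u' ∈ RGD.Sup (XX D l k) (RGD.Pos cs hp.isCartan)) (hn : Rp cs hN w n) (hn' : Rp cs hN w' n')
    (hv : v ∈ RGD.Sup (XX D l k) (NW cs hp.isCartan w)) (hv' : v' ∈ RGD.Sup (XX D l k) (NW cs hp.isCartan w'))
    (e : u * n * v = u' * n' * v') : w = w' ∧ u = u' ∧ n = n' ∧ v = v' := by
  have H := tow hp cs hk p
  rw [← XL_eq hp hk] at hu hu' hv hv'
  exact H.normal_form_unique hu hu' ((rp_conv hp cs hk p hN).2 hn) ((rp_conv hp cs hk p hN).2 hn') hv hv' e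

include hk in
theorem InCell.unique (p : ℕ) [Fact p.Prime] [CharP k p] {hN : NSys M (TT D k) (nc hp k)} {w w' : W}
    {c : ↥(D.group k)} (h : InCell hp cs hN w c) (h' : InCell hp cs hN w' c) : w = w' := by
  obtain ⟨u, hu, n, hn, v, hv, e⟩ := h
  obtain ⟨u', hu', n', hn', v', hv', e'⟩ := h'
  exact (nf_unique hp cs hk p hu hu' hn hn' hv hv' (e.symm.trans e')).1

variable (Fm : Frm cs hp.isCartan (bf (cartanOf D l)))

include hk Fm in
/-- **One cell.** -/
theorem cell (he : 0 < e) (hτ : IsFrob p e τ) (F : Fr cs hp.isCartan (TT D k) (XX D l k) τ g) {d' : ℕ}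
    {B' : Fin l → Fin l → ℤ} (hB : InvC D l d' B') (hd' : d' ≠ 0) {hN : NSys M (TT D k) (nc hp k)}
    {t : ↥(D.group k)} (ht : t ∈ TT D k) (hgS : ∀ a ∈ St hp cs t, g a ∈ St hp cs t)
    {sT : Finset ↥(D.group k)} (hsT : ∀ s ∈ sT, s ∈ TT D k ∧ τ s = s) {w' : W}
    (hcomm : ∀ x, rep cs hp.isCartan w' (g x) = g (rep cs hp.isCartan w' x))
    (hfix : ∀ x, cX hp t (rep cs hp.isCartan w' x) = cX hp t x) :
    ∃ s : Finset ↥(D.group k),
      s.card = (p ^ e) ^ (St hp cs t).ncard * sT.card * (p ^ e) ^ (St hp cs t ∩ NW cs hp.isCartan w').ncard ∧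
      ∀ c ∈ s, c * t = t * c ∧ τ c = c ∧ InCell hp cs hN w' c := by
  classical
  obtain ⟨n', hn', hτn'⟩ := lemN hp cs hk he hτ F hB hd' (hN := hN) hcomm
  have hSc := closed_St hp cs Fm ht
  obtain ⟨s1, hs1, h1⟩ := lemU hp cs hk Fm he hτ F _ (St hp cs t) rfl (St_pos hp cs t) hSc hgS
  have hSf : (St hp cs t).Finite :=
    (RGD.finite_roots (cs := cs) (h := hp.isCartan)).subset fun _ hx => hx.1.1
  -- `g` is onto on `St`
  have hgS' : ∀ a ∈ St hp cs t, g.symm a ∈ St hp cs t := by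
    have hinj : Set.InjOn g (St hp cs t) := g.injective.injOn
    have himg : g '' (St hp cs t) = St hp cs t :=
      Set.eq_of_subset_of_ncard_le (Set.image_subset_iff.2 hgS) (by rw [hinj.ncard_image]) hSf
    intro a ha
    rw [← himg] at ha
    obtain ⟨b, hb, rfl⟩ := ha
    rwa [AddEquiv.symm_apply_apply]
  have hgNW : ∀ a ∈ St hp cs t ∩ NW cs hp.isCartan w', g a ∈ St hp cs t ∩ NW cs hp.isCartan w' := by
    rintro a ⟨ha, hw⟩
    refine ⟨hgS a ha, (hgS a ha).1.1, (hgS a ha).1.2, ?_⟩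
    rw [hcomm]
    -- `- w' a` is in `St`
    have h2 : - rep cs hp.isCartan w' a ∈ St hp cs t := by
      refine ⟨⟨(hw.1.act w').neg, neg_nonneg.2 hw.2.2⟩, ?_⟩
      rw [(isMC_cX hp ht).neg, hfix, ha.2, inv_one]
    have h3 := (hgS _ h2).1.2
    rw [map_neg] at h3
    exact neg_nonneg.1 h3
  obtain ⟨s2, hs2, h2⟩ := lemU hp cs hk Fm he hτ F _ (St hp cs t ∩ NW cs hp.isCartan w') rfl
    (Set.inter_subset_left.trans (St_pos hp cs t)) (hSc.inter (closed_NW hp cs w')) hgNW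
  let f : (↥(D.group k) × ↥(D.group k)) × ↥(D.group k) → ↥(D.group k) := fun q => q.1.1 * (n' * q.1.2) * q.2
  have hU1 : ∀ u ∈ s1, u ∈ RGD.Sup (XX D l k) (RGD.Pos cs hp.isCartan) := fun u hu =>
    RGD.Sup_mono (St_pos hp cs t) (h1 u hu).1
  have hV1 : ∀ v ∈ s2, v ∈ RGD.Sup (XX D l k) (NW cs hp.isCartan w') := fun v hv =>
    RGD.Sup_mono Set.inter_subset_right (h2 v hv).1
  have hn't : n' * t = t * n' := by
    have h3 : n' * t * n'⁻¹ ∈ TT D k := (Subgroup.mem_normalizer_iff.1 hn'.mem_normalizer t).1 ht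
    have h4 : n' * t * n'⁻¹ = t := by
      refine cX_inj hp h3 ht fun i => ?_
      have h5 : (sr i : Fin l → ℤ) = rep cs hp.isCartan w' (rep cs hp.isCartan w'⁻¹ (sr i)) :=
        (rep_apply_inv _ _ _ _).symm
      rw [h5, cX_rp hp cs hk p hn' ht, hfix]
    exact mul_inv_eq_iff_eq_mul.1 h4
  have hinj : Set.InjOn f (((s1 ×ˢ sT) ×ˢ s2 : Finset _) : Set _) := by
    rintro ⟨⟨u, s⟩, v⟩ hx ⟨⟨u', s'⟩, v'⟩ hx' he'
    rw [Finset.mem_coe, Finset.mem_product, Finset.mem_product] at hx hx'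
    obtain ⟨⟨hu, hs⟩, hv⟩ := hx
    obtain ⟨⟨hu', hs'⟩, hv'⟩ := hx'
    simp only at hu hs hv hu' hs' hv'
    obtain ⟨-, e1, e2, e3⟩ := nf_unique hp cs hk p (hU1 u hu) (hU1 u' hu') (hn'.mul_mem_right (hsT s hs).1)
      (hn'.mul_mem_right (hsT s' hs').1) (hV1 v hv) (hV1 v' hv') he'
    rw [e1, mul_left_cancel e2, e3]
  refine ⟨((s1 ×ˢ sT) ×ˢ s2).image f, ?_, ?_⟩
  · rw [Finset.card_image_of_injOn hinj, Finset.card_product, Finset.card_product, hs1, hs2]
  · intro c hc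
    rw [Finset.mem_image] at hc
    obtain ⟨⟨⟨u, s⟩, v⟩, hx, rfl⟩ := hc
    rw [Finset.mem_product, Finset.mem_product] at hx
    obtain ⟨⟨hu, hs⟩, hv⟩ := hx
    simp only at hu hs hv
    have hut := Sup_comm hp cs hk p ht (fun a ha => ⟨ha.1.1, ha.2⟩) (h1 u hu).1
    have hvt := Sup_comm hp cs hk p ht (fun a ha => ⟨ha.1.1.1, ha.1.2⟩) (h2 v hv).1
    have hst : s * t = t * s := TT_comm hp (hsT s hs).1 ht
    refine ⟨?_, ?_, u, hU1 u hu, n' * s, hn'.mul_mem_right (hsT s hs).1, v, hV1 v hv, rfl⟩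
    · show u * (n' * s) * v * t = t * (u * (n' * s) * v)
      calc u * (n' * s) * v * t = u * (n' * s) * (v * t) := by group
        _ = u * n' * (s * t) * v := by rw [hvt]; group
        _ = u * (n' * t) * s * v := by rw [hst]; group
        _ = (u * t) * n' * s * v := by rw [hn't]; group
        _ = _ := by rw [hut]; group
    · show τ (u * (n' * s) * v) = u * (n' * s) * v
      rw [map_mul, map_mul, map_mul, (h1 u hu).2, hτn', (hsT s hs).2, (h2 v hv).2]

include hk Fm in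
/-- **Several cells.** -/
theorem cells (he : 0 < e) (hτ : IsFrob p e τ) (F : Fr cs hp.isCartan (TT D k) (XX D l k) τ g) {d' : ℕ}
    {B' : Fin l → Fin l → ℤ} (hB : InvC D l d' B') (hd' : d' ≠ 0) {t : ↥(D.group k)} (ht : t ∈ TT D k)
    (hgS : ∀ a ∈ St hp cs t, g a ∈ St hp cs t) {sT : Finset ↥(D.group k)} (hsT : ∀ s ∈ sT, s ∈ TT D k ∧ τ s = s)
    (Ws : Finset W)
    (hcomm : ∀ w' ∈ Ws, ∀ x, rep cs hp.isCartan w' (g x) = g (rep cs hp.isCartan w' x))
    (hfix : ∀ w' ∈ Ws, ∀ x, cX hp t (rep cs hp.isCartan w' x) = cX hp t x) :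
    ∃ s : Finset ↥(D.group k),
      s.card = ∑ w' ∈ Ws, (p ^ e) ^ (St hp cs t).ncard * sT.card *
        (p ^ e) ^ (St hp cs t ∩ NW cs hp.isCartan w').ncard ∧
      ∀ c ∈ s, c * t = t * c ∧ τ c = c := by
  classical
  have hN : NSys M (TT D k) (nc hp k) := nsysT hp hk p
  have h1 : ∀ w' ∈ Ws, ∃ s : Finset ↥(D.group k),
      s.card = (p ^ e) ^ (St hp cs t).ncard * sT.card * (p ^ e) ^ (St hp cs t ∩ NW cs hp.isCartan w').ncard ∧
      ∀ c ∈ s, c * t = t * c ∧ τ c = c ∧ InCell hp cs hN w' c := fun w' hw' =>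
    cell hp cs hk Fm he hτ F hB hd' ht hgS hsT (hcomm w' hw') (hfix w' hw')
  choose! s hs h2 using h1
  refine ⟨Ws.biUnion s, ?_, ?_⟩
  · rw [Finset.card_biUnion]
    · exact Finset.sum_congr rfl fun w' hw' => hs w' hw'
    · intro x hx y hy hxy
      show Disjoint (s x) (s y)
      rw [Finset.disjoint_left]
      intro c hc hc'
      exact hxy (InCell.unique hp cs hk p (h2 x hx c hc).2.2 (h2 y hy c hc').2.2)
  · intro c hc
    rw [Finset.mem_biUnion] at hc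
    obtain ⟨w', hw', hc⟩ := hc
    exact ⟨(h2 w' hw' c hc).1, (h2 w' hw' c hc).2.1⟩

/-! ### connectedness, composite order -/

section Char

variable {N : ℕ} {B : Fin l → Fin l → ℤ} {d : ℕ} (hB : InvC D l d B) (hpd : d.Coprime N)

include hB hpd in
/-- **The character of an element of order `N` is the pairing with a lattice vector.** -/
theorem exists_mu' (hN0 : N ≠ 0) {ζ : k} (hζ : IsPrimitiveRoot ζ N) {t : ↥(D.group k)} (ht : t ∈ TT D k)
    (htp : t ^ N = 1) : ∃ μ : Fin l → ℤ, ∀ x, cX hp t x = ζ ^ (bf (cartanOf D l) μ x) := by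
  have hζ0 : ζ ≠ 0 := hζ.ne_zero hN0
  have h1 : ∀ i : Fin l, ∃ c : ℕ, ζ ^ c = cX hp t (sr i) := by
    intro i
    have h2 : cX hp t (sr i) ^ N = 1 := by rw [← cX_pow hp ht, htp, cX_one]
    have : NeZero N := ⟨hN0⟩
    obtain ⟨c, -, hc⟩ := hζ.eq_pow_of_pow_eq_one h2
    exact ⟨c, hc⟩
  choose c hc using h1
  obtain ⟨u, hu⟩ : ∃ u : ℤ, (N : ℤ) ∣ u * d - 1 := by
    have h2 : IsCoprime (d : ℤ) (N : ℤ) := Nat.isCoprime_iff_coprime.2 hpd
    obtain ⟨a, b, hab⟩ := h2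
    exact ⟨a, ⟨-b, by linarith⟩⟩
  have hud : ζ ^ (u * d) = ζ := by
    obtain ⟨v, hv⟩ := hu
    have : u * d = 1 + N * v := by linarith
    rw [this, zpow_add₀ hζ0, zpow_one, zpow_mul, zpow_natCast, hζ.pow_eq_one, one_zpow, mul_one]
  refine ⟨fun i => u * ∑ m, (c m : ℤ) * B m i, fun x => ?_⟩
  have h2 : bf (cartanOf D l) (fun i => u * ∑ m, (c m : ℤ) * B m i) x = (u * d) * ∑ j, (c j : ℤ) * x j := by
    rw [bf_apply, Finset.sum_comm, Finset.mul_sum]
    refine Finset.sum_congr rfl fun j _ => ?_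
    have h3 : ∀ m, ∑ i, B m i * cartanOf D l i j = if m = j then (d : ℤ) else 0 := fun m => hB m j
    calc ∑ i, u * (∑ m, (c m : ℤ) * B m i) * cartanOf D l i j * x j
        = u * (∑ i, ∑ m, (c m : ℤ) * (B m i * cartanOf D l i j)) * x j := by
          rw [Finset.mul_sum, Finset.sum_mul]
          refine Finset.sum_congr rfl fun i _ => ?_
          have : ∑ m, (c m : ℤ) * (B m i * cartanOf D l i j) = (∑ m, (c m : ℤ) * B m i) * cartanOf D l i j := by
            rw [Finset.sum_mul]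
            exact Finset.sum_congr rfl fun m _ => by ring
          rw [this]; ring
      _ = u * (∑ m, (c m : ℤ) * ∑ i, B m i * cartanOf D l i j) * x j := by
          rw [Finset.sum_comm]
          congr 2
          refine Finset.sum_congr rfl fun m _ => ?_
          rw [Finset.mul_sum]
      _ = u * ((c j : ℤ) * d) * x j := by
          congr 2
          rw [Finset.sum_eq_single j]
          · rw [h3, if_pos rfl]
          · intro m _ hm
            rw [h3, if_neg hm, mul_zero]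
          · intro hj; exact absurd (Finset.mem_univ j) hj
      _ = _ := by ring
  rw [h2, zpow_mul, hud]
  rw [(isMC_cX hp ht).eq_prod x]
  have h3 : ∀ s : Finset (Fin l), ∏ i ∈ s, cX hp t (sr i) ^ x i = ζ ^ (∑ j ∈ s, (c j : ℤ) * x j) := by
    intro s
    classical
    induction s using Finset.induction_on with
    | empty => rw [Finset.prod_empty, Finset.sum_empty, zpow_zero]
    | insert a s ha ih =>
      rw [Finset.prod_insert ha, Finset.sum_insert ha, ih, zpow_add₀ hζ0, ← hc a, ← zpow_natCast, ← zpow_mul]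
  exact h3 _

include Fm hB hpd in
/-- **Connected centralisers**, simply laced groups, `N` prime to the determinant and to the characteristic. -/
theorem con_of_frm' (hN0 : N ≠ 0) (hNp : N.Coprime p) : Con hp cs hk p N := by
  intro t ht htp w hw
  obtain ⟨ζ, hζ⟩ := exists_prim' (k := k) p hN0 hNp
  obtain ⟨μ, hμ⟩ := exists_mu' hp hB hpd hN0 hζ ht htp
  have h1 : ∀ x, cX hp t (repAut cs hp.isCartan w x) = cX hp t x := by
    have h2 : IsMC fun x => cX hp t (repAut cs hp.isCartan w x) :=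
      (isMC_cX hp ht).comp (repAut cs hp.isCartan w).toAddMonoidHom
    refine fun x => h2.ext (isMC_cX hp ht) (fun i => ?_) x
    show cX hp t (rep cs hp.isCartan w (sr i)) = _
    rw [cX_root hp cs ht ((isRoot_sr cs hp.isCartan i).act w), cX_root hp cs ht (isRoot_sr cs hp.isCartan i)]
    exact hw _ (isRoot_sr cs hp.isCartan i) t rfl
  obtain ⟨l0, hl0⟩ := fix_class hp cs hB hpd Fm hζ hN0 hμ (θ := repAut cs hp.isCartan w)
    (fun x y => Fm.inv w x y) h1
  exact VV_le hp cs hk p hζ ht Fm hμ (H897.T5Lat.mem_VV_of_rep Fm (Nat.pos_of_ne_zero hN0) hl0)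

end Char

/-! ### transfer to the finite group -/

section Transfer

open Cfsg.Agent.BpExc.FamUntw Cfsg.Agent.BpExc.FamInst Cfsg.Agent.BpExc.FamField

variable {F0 : Type u} [Field F0] [Finite F0] (f : F0 →+* k) {n : ℕ} (hn : Nat.card F0 = p ^ n)
  {B : Fin l → Fin l → ℤ} (hB : InvC D l 1 B)

include hk Fm hn hB in
/-- **Lower bounds for centralisers in `D.group F0`.** -/
theorem cent_bound (hn0 : 0 < n) {N : ℕ} (hN0 : N ≠ 0) (hNp : N.Coprime p) {x : ↥(D.group F0)} (hx : x ^ N = 1)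
    {z t : ↥(D.group k)} (hz : z⁻¹ * emb hp.inList f x * z = t) (ht : t ∈ TT D k) (w : W)
    (hw : ∀ a, cX hp t (rep cs hp.isCartan w a) = cX hp t a ^ p ^ n)
    (hwS : ∀ a ∈ St hp cs t, rep cs hp.isCartan w a ∈ St hp cs t)
    (d : Fin l → ℕ) (hd0 : ∀ i, d i ≠ 0) (hdp : ∀ i, (d i).Coprime p) (U fv : Fin l → Fin l → ℤ)
    (hUf : ∀ i j, ∑ m, U i m * fv j m = if i = j then 1 else 0)
    (hU : ∀ i m, (d i : ℤ) ∣ ∑ j, U i j * (rep cs hp.isCartan w (sr m) -
      ((p ^ n : ℕ) : ℤ) • (sr m : Fin l → ℤ)) j) (Ws : Finset W)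
    (hcomm : ∀ w' ∈ Ws, w' * w = w * w')
    (hfix : ∀ w' ∈ Ws, ∀ a, cX hp t (rep cs hp.isCartan w' a) = cX hp t a) :
    ∑ w' ∈ Ws, (p ^ n) ^ (St hp cs t).ncard * (∏ i, d i) * (p ^ n) ^ (St hp cs t ∩ NW cs hp.isCartan w').ncard ≤
      Nat.card ↥(Subgroup.centralizer {x}) := by
  classical
  have hN : NSys M (TT D k) (nc hp k) := nsysT hp hk p
  set σ := phi D k p n with hσ
  have hσF : IsFrob p n σ := phi_isFrob p n
  have F : Fr cs hp.isCartan (TT D k) (XX D l k) σ (AddEquiv.refl _) := phi_fr hp cs p hk n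
  have hσx : σ (emb hp.inList f x) = emb hp.inList f x := Cfsg.Agent.H378.TorFin.phi_emb' hp f p hn x
  obtain ⟨n1, hn1⟩ := exists_rp cs hN w
  have hσt : σ t ∈ TT D k := (F.tor t).2 ht
  have hnt : n1 * σ t * n1⁻¹ = t := (tau_iff hp cs hk hσF F hn1 ht).2 hw
  have htN : t ^ N = 1 := by
    rw [← hz]
    have h1 : (z⁻¹ * emb hp.inList f x * z) ^ N = z⁻¹ * (emb hp.inList f x) ^ N * z := by
      have := conj_pow (i := N) (a := z⁻¹) (b := emb hp.inList f x)
      rwa [inv_inv] at this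
    rw [h1, ← map_pow, hx, map_one, mul_one, inv_mul_cancel]
  have hC := con_of_frm' (p := p) hp cs hk Fm hB (N := N) (Nat.coprime_one_left N) hN0 hNp
  obtain ⟨z1, hz1, hz2⟩ := star hp cs hk p hC hn0 hσF F hB one_ne_zero hn1 hσx hz ht htN hnt
  -- the twisted Frobenius map
  set τ := MulAut.conj n1 * σ with hτ
  have hτF : IsFrob p n τ := hσF.conj_mul n1
  have F1 : Fr cs hp.isCartan (TT D k) (XX D l k) τ ((AddEquiv.refl _).trans (repAut cs hp.isCartan w)) :=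
    (fr_conj hp cs hk p hn1).mul F
  have hg : ∀ a, ((AddEquiv.refl (Fin l → ℤ)).trans (repAut cs hp.isCartan w)) a = rep cs hp.isCartan w a :=
    fun _ => rfl
  obtain ⟨sT, hsT, hsT2⟩ := lemT hp cs hk hτF F1 hB one_ne_zero d hd0 hdp U fv hUf hU
  obtain ⟨s, hs, hs2⟩ := cells hp cs hk Fm hn0 hτF F1 hB one_ne_zero ht hwS hsT2 Ws (by
    intro w' hw' a
    rw [hg, hg, ← rep_mul_apply, ← rep_mul_apply, hcomm w' hw']) hfix
  rw [hsT] at hs
  rw [← hs]
  -- the embedding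
  have hfix' : ∀ c ∈ s, ∃ c0 : ↥(D.group F0), emb hp.inList f c0 = z1 * c * z1⁻¹ ∧ c0 ∈ Subgroup.centralizer {x} := by
    intro c hc
    obtain ⟨h1, h2⟩ := hs2 c hc
    have h3 : σ z1 = z1 * n1 := by rw [← hz1]; group
    have h4 : σ (z1 * c * z1⁻¹) = z1 * c * z1⁻¹ := by
      have h5 : n1 * σ c * n1⁻¹ = c := h2
      rw [map_mul, map_mul, map_inv, h3]
      calc z1 * n1 * σ c * (z1 * n1)⁻¹ = z1 * (n1 * σ c * n1⁻¹) * z1⁻¹ := by group
        _ = _ := by rw [h5]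
    obtain ⟨c0, hc0⟩ := Cfsg.Agent.H378.TorFin.fix_mem hp f p hn hB h4
    refine ⟨c0, hc0, ?_⟩
    rw [Subgroup.mem_centralizer_singleton_iff]
    apply emb_injective hp.inList f
    rw [map_mul, map_mul, hc0]
    have h5 : emb hp.inList f x = z1 * t * z1⁻¹ := by rw [← hz2]; group
    rw [h5]
    calc z1 * c * z1⁻¹ * (z1 * t * z1⁻¹) = z1 * (c * t) * z1⁻¹ := by group
      _ = z1 * (t * c) * z1⁻¹ := by rw [h1]
      _ = _ := by group
  choose! c0 hc0 hc1 using hfix'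
  have hfin : Finite ↥(D.group F0) := inferInstance
  have h6 : (s.image c0).card = s.card := Finset.card_image_of_injOn (by
    intro a ha b hb hab
    have h7 := hc0 a ha
    rw [hab, hc0 b hb] at h7
    exact (mul_left_cancel (mul_right_cancel h7)).symm)
  rw [← h6, ← Set.ncard_coe_finset]
  have h8 : ((s.image c0 : Finset ↥(D.group F0)) : Set ↥(D.group F0)) ⊆
      (Subgroup.centralizer {x} : Subgroup ↥(D.group F0)) := by
    intro y hy
    rw [Finset.mem_coe, Finset.mem_image] at hy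
    obtain ⟨c, hc, rfl⟩ := hy
    exact hc1 c hc
  exact Set.ncard_le_ncard h8 (Set.toFinite _)

end Transfer

end

end Cfsg.Agent.H942.CB
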