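import Mathlib
import Cfsg.Agent.H942.CB.Chk
import Cfsg.Agent.H942.E8Val

/-!
# Elements of `E₈(3)` of order prime to 3: Brauer character and torus data for the same alcove vector
-/

set_option autoImplicit false
set_option linter.unusedSectionVars false
set_option maxRecDepth 100000

namespace Cfsg.Agent.H942.CB

open Cfsg Cfsg.Lie Cfsg.Lie.ChevalleyDatum
open Cfsg.Agent.ChevalleyStructure Cfsg.Agent.ChevalleyStructure.CoxeterGeomTypes
open Cfsg.Agent.H942.E8Tab Cfsg.Agent.H942.E8Alc Cfsg.Agent.H942.ValsChar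
open Cfsg.Agent.H944.RootVals Cfsg.Agent.H944.Tab Cfsg.Agent.H944.Kac
open Cfsg.Agent.H657 IsLocalRing Module

/-- every vector can be moved into the alcove, with the same multiset of root values and torus data -/
theorem exists_alcT {N : ℕ} (hN : 0 < N) {x : ↥(chevE8.group (ZMod 3))} (v : Fin 8 → ZMod N) (hv : TorD e8T x N v) :
    ∃ Y : List ℕ, Y.length = 8 ∧ dotN th8 Y ≤ N ∧ ms chevE8 8 (vecL N Y) = ms chevE8 8 v ∧
      TorD e8T x N (vecL N Y) := by
  have : NeZero N := ⟨hN.ne'⟩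
  let P : (Fin 8 → ZMod N) → Prop := fun w => ms chevE8 8 w = ms chevE8 8 v ∧ TorD e8T x N w
  have hPs : ∀ w j, P w → P (srefl chevE8 8 j w) := by
    intro w j hw
    refine ⟨?_, hw.2.srefl e8T 3 j⟩
    rw [ms_srefl e8T]
    exact hw.1
  obtain ⟨y, hy, hθ⟩ := exists_alcove e8T (N := N) hN _ _ 60 (by norm_num) theta8
    (by decide) _ pos8 P hPs (v₀ := v) ⟨rfl, hv⟩
  let Y : List ℕ := List.ofFn y
  have hY : ∀ i : Fin 8, Y.getD i 0 = y i := by
    intro i
    rw [List.getD_eq_getElem _ _ (by rw [List.length_ofFn]; exact i.2), List.getElem_ofFn]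
  have hYv : vecL N Y = fun i => ((y i : ℕ) : ZMod N) := by
    funext i
    unfold vecL
    rw [hY]
  refine ⟨Y, by simp [Y], ?_, ?_, ?_⟩
  · rw [dotN_eq 8 th8 Y (by decide)]
    have h2 : ∑ i : Fin 8, th8.getD i 0 * Y.getD i 0 = ∑ i : Fin 8, th8.getD i 0 * y i :=
      Finset.sum_congr rfl fun i _ => by rw [hY]
    rw [h2]
    simp only [Fin.sum_univ_eight, Matrix.cons_val] at hθ ⊢
    simp only [th8, List.getD_cons_zero, List.getD_cons_succ, Fin.val_zero, Fin.val_one, Fin.val_two] at hθ ⊢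
    norm_num at hθ ⊢
    omega
  · rw [hYv]
    exact hy.1
  · rw [hYv]
    exact hy.2

variable {V : ValuationSubring ℂ} [CharP (ResidueField V) 3] {G : Type*} [Group G]
  (F : G →* ↥(chevE8.group (ZMod 3)))

theorem exists_specT {g : G} {N : ℕ} (hN0 : N ≠ 0) (hN : N.Coprime 3) (hg : g ^ N = 1) :
    ∃ (Y : List ℕ) (ξ : ℂ), Spec V F g N Y ξ ∧ TorD e8T (F g) N (vecL N Y) := by
  have : IsAlgClosed (ResidueField V) := Above.isAlgClosed V
  obtain ⟨v, hvT, hv, ζ, hζ, hchar⟩ := exists_valsTor e8T 3 (F := ZMod 3) (x := F g) (N := N) hN0 hN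
    (by rw [← map_pow, hg, map_one]) (ResidueField V)
  obtain ⟨Y, hY1, hY2, hY3, hY4⟩ := exists_alcT (Nat.pos_of_ne_zero hN0) v hvT
  have h3N : ¬ 3 ∣ N := by
    intro h
    have := Nat.dvd_gcd h (dvd_refl 3)
    rw [hN] at this
    omega
  have hRU : IsRU 3 ζ := ⟨N, h3N, hζ.pow_eq_one⟩
  refine ⟨Y, lift 3 ζ, ⟨hY1, hY2, lift_primitive h3N hζ, ?_, ?_, ?_, ?_⟩, hY4⟩
  · intro d
    unfold Cfsg.Agent.H657.bc
    rw [adj_charpoly, map_pow, hchar d, Polynomial.roots_mul, Polynomial.roots_pow, Polynomial.roots_X_sub_C,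
      Multiset.map_add, Multiset.sum_add, hY3]
    · congr 1
      · rw [Multiset.map_nsmul, Multiset.map_singleton, lift_one, Multiset.sum_nsmul, Multiset.sum_singleton]
        show (8 : ℕ) • (1 : ℂ) = 8
        simp
      · rw [show (ms chevE8 8 v).map (fun a => Polynomial.X - Polynomial.C (ζ ^ (((d : ZMod N) * a).val))) =
          ((ms chevE8 8 v).map (fun a => ζ ^ (((d : ZMod N) * a).val))).map
            (fun r => Polynomial.X - Polynomial.C r) by
            rw [Multiset.map_map]; rfl,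
          Polynomial.roots_multiset_prod_X_sub_C, Multiset.map_map]
        congr 1
        refine Multiset.map_congr rfl fun a _ => ?_
        exact lift_pow hRU _
    · refine mul_ne_zero (pow_ne_zero _ (Polynomial.X_sub_C_ne_zero _)) ?_
      refine Multiset.prod_ne_zero fun h => ?_
      rw [Multiset.mem_map] at h
      obtain ⟨a, -, ha⟩ := h
      exact Polynomial.X_sub_C_ne_zero _ ha
  · rw [hY3]
    have := hv.frob
    rwa [Nat.card_zmod] at this
  · intro d
    rw [hY3, mem_ms_iff, hv.ord, map_pow]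
  · intro a ha
    rw [hY3]
    exact hv.conj a ha

end Cfsg.Agent.H942.CB
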