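import Mathlib
import Cfsg.Agent.H942.CB.Chk

/-!
# Certificates for elements of order 4 and 8 of `E₈(3)`
-/

set_option autoImplicit false
set_option linter.style.longLine false
set_option maxRecDepth 100000

namespace Cfsg.Agent.H942.CB

/-- certificate, `N = 4`, type A3D5 -/
def CA3D5 : Cert := ⟨[5, 4, 3, 2, 1, 3, 4, 5, 6, 0, 2, 3, 4, 5, 1, 3, 4, 2, 3, 0, 2, 1, 3, 4, 5, 6, 0, 2, 3,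
  4, 5, 1, 3, 4, 2, 3, 0, 2, 1, 3, 4, 5], [1, 1, 2, 2, 2, 2, 8, 8], [[1, 0, 0, 0, 0, 0, 0, 0], [-2, 1, 0, 0,
  0, 0, 0, 0], [-2, 0, 1, 0, 0, 0, 0, 0], [-3, 0, 0, 1, 0, 0, 0, 0], [-8, 3, 0, 0, 1, 0, 0, 0], [-1, 0, 0, 0,
  0, 0, 1, 0], [0, -3, 0, 0, -1, 0, 8, 1], [0, 0, 0, 0, 0, 1, -4, -2]], [[1, 2, 2, 3, 2, 4, 1, 0], [0, 1, 0,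
  0, -3, 0, 0, 0], [0, 0, 1, 0, 0, 0, 0, 0], [0, 0, 0, 1, 0, 0, 0, 0], [0, 0, 0, 0, 1, 2, 0, 1], [0, 0, 0, 0,
  0, -12, 1, -8], [0, 0, 0, 0, 0, 2, 0, 1], [0, 0, 0, 0, 0, 1, 0, 0]], [[7, 6, 5, 4, 3, 2, 1, 3, 4, 5, 6, 0,
  2, 3, 4, 5, 1, 3, 4, 2, 3, 0, 2, 1, 3, 4, 5, 6, 7, 6, 5, 4, 3, 2, 1, 3, 4, 5, 6, 0, 2, 3, 4, 5, 1, 3, 4, 2,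
  3, 0, 2, 1, 3, 4, 5, 6, 7, 6, 1, 3, 4, 2, 3, 0, 2, 1, 3, 4, 2, 3, 0, 2, 1, 3, 0, 2, 1, 0], [7, 6, 5, 4, 3,
  2, 1, 3, 4, 5, 6, 0, 2, 3, 4, 5, 1, 3, 4, 2, 3, 0, 2, 1, 3, 4, 5, 6, 7, 6, 5, 4, 3, 2, 1, 3, 4, 5, 6, 0, 2,
  3, 4, 5, 1, 3, 4, 2, 3, 0, 2, 1, 3, 4, 5, 6, 7, 6, 1, 3, 4, 2, 3, 0, 2, 1, 3, 4, 2, 3, 0, 2, 1, 3, 0, 2, 1],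
  [7, 6, 5, 4, 3, 2, 1, 3, 4, 5, 6, 0, 2, 3, 4, 5, 1, 3, 4, 2, 3, 0, 2, 1, 3, 4, 5, 6, 7, 6, 5, 4, 3, 2, 1, 3,
  4, 5, 6, 0, 2, 3, 4, 5, 1, 3, 4, 2, 3, 0, 2, 1, 3, 4, 5, 6, 7, 6, 1, 3, 4, 2, 3, 0, 2, 1, 3, 4, 2, 3, 0, 2,
  1, 3, 2, 1, 0], [7, 6, 5, 4, 3, 2, 1, 3, 4, 5, 6, 0, 2, 3, 4, 5, 1, 3, 4, 2, 3, 0, 2, 1, 3, 4, 5, 6, 7, 6,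
  5, 4, 3, 2, 1, 3, 4, 5, 6, 0, 2, 3, 4, 5, 1, 3, 4, 2, 3, 0, 2, 1, 3, 4, 5, 6, 7, 6, 1, 3, 4, 2, 3, 0, 2, 1,
  3, 4, 3, 0, 2, 1, 3, 0, 2, 1, 0], [7, 6, 5, 4, 3, 2, 1, 3, 4, 5, 6, 0, 2, 3, 4, 5, 1, 3, 4, 2, 3, 0, 2, 1,
  3, 4, 5, 6, 7, 6, 5, 4, 3, 2, 1, 3, 4, 5, 6, 0, 2, 3, 4, 5, 1, 3, 4, 2, 3, 0, 2, 1, 3, 4, 5, 6, 7, 1, 3, 4,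
  2, 3, 0, 2, 1, 3, 4, 2, 3, 0, 2, 1, 3, 0, 2, 1, 0], [7, 6, 5, 4, 3, 2, 1, 3, 4, 5, 6, 0, 2, 3, 4, 5, 1, 3,
  4, 2, 3, 0, 2, 1, 3, 4, 5, 6, 7, 6, 5, 4, 3, 2, 1, 3, 4, 5, 6, 0, 2, 3, 4, 5, 1, 3, 4, 2, 3, 0, 2, 1, 3, 4,
  5, 6, 7, 6, 1, 3, 4, 2, 3, 0, 2, 1, 3, 4, 2, 3, 0, 2, 1, 3, 1, 0], [7, 6, 5, 4, 3, 2, 1, 3, 4, 5, 6, 0, 2,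
  3, 4, 5, 1, 3, 4, 2, 3, 0, 2, 1, 3, 4, 5, 6, 7, 6, 5, 4, 3, 2, 1, 3, 4, 5, 6, 0, 2, 3, 4, 5, 1, 3, 4, 2, 3,
  0, 2, 1, 3, 4, 5, 6, 7, 6, 1, 3, 4, 2, 3, 0, 2, 1, 3, 4, 2, 3, 0, 2, 1, 3, 2, 1], [7, 6, 5, 4, 3, 2, 1, 3,
  4, 5, 6, 0, 2, 3, 4, 5, 1, 3, 4, 2, 3, 0, 2, 1, 3, 4, 5, 6, 7, 6, 5, 4, 3, 2, 1, 3, 4, 5, 6, 0, 2, 3, 4, 5,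
  1, 3, 4, 2, 3, 0, 2, 1, 3, 4, 5, 6, 7, 6, 1, 3, 4, 2, 3, 0, 2, 1, 3, 4, 0, 2, 1, 3, 0, 2, 1, 0], [7, 6, 5,
  4, 3, 2, 1, 3, 4, 5, 6, 0, 2, 3, 4, 5, 1, 3, 4, 2, 3, 0, 2, 1, 3, 4, 5, 6, 7, 6, 5, 4, 3, 2, 1, 3, 4, 5, 6,
  0, 2, 3, 4, 5, 1, 3, 4, 2, 3, 0, 2, 1, 3, 4, 5, 6, 7, 6, 1, 3, 4, 2, 3, 0, 2, 1, 3, 4, 3, 0, 2, 1, 3, 0, 2,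
  1], [7, 6, 5, 4, 3, 2, 1, 3, 4, 5, 6, 0, 2, 3, 4, 5, 1, 3, 4, 2, 3, 0, 2, 1, 3, 4, 5, 6, 7, 6, 5, 4, 3, 2,
  1, 3, 4, 5, 6, 0, 2, 3, 4, 5, 1, 3, 4, 2, 3, 0, 2, 1, 3, 4, 5, 6, 7, 6, 1, 3, 4, 2, 3, 0, 2, 1, 3, 4, 3, 0,
  2, 1, 3, 2, 1, 0], [7, 6, 5, 4, 3, 2, 1, 3, 4, 5, 6, 0, 2, 3, 4, 5, 1, 3, 4, 2, 3, 0, 2, 1, 3, 4, 5, 6, 7,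
  6, 5, 4, 3, 2, 1, 3, 4, 5, 6, 0, 2, 3, 4, 5, 1, 3, 4, 2, 3, 0, 2, 1, 3, 4, 5, 6, 7, 1, 3, 4, 2, 3, 0, 2, 1,
  3, 4, 2, 3, 0, 2, 1, 3, 0, 2, 1], [7, 6, 5, 4, 3, 2, 1, 3, 4, 5, 6, 0, 2, 3, 4, 5, 1, 3, 4, 2, 3, 0, 2, 1,
  3, 4, 5, 6, 7, 6, 5, 4, 3, 2, 1, 3, 4, 5, 6, 0, 2, 3, 4, 5, 1, 3, 4, 2, 3, 0, 2, 1, 3, 4, 5, 6, 7, 1, 3, 4,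
  2, 3, 0, 2, 1, 3, 4, 2, 3, 0, 2, 1, 3, 2, 1, 0], [7, 6, 5, 4, 3, 2, 1, 3, 4, 5, 6, 0, 2, 3, 4, 5, 1, 3, 4,
  2, 3, 0, 2, 1, 3, 4, 5, 6, 7, 6, 5, 4, 3, 2, 1, 3, 4, 5, 6, 0, 2, 3, 4, 5, 1, 3, 4, 2, 3, 0, 2, 1, 3, 4, 5,
  6, 7, 1, 3, 4, 2, 3, 0, 2, 1, 3, 4, 3, 0, 2, 1, 3, 0, 2, 1, 0]]⟩

theorem chkA3D5 : chk 4 [0, 0, 0, 0, 0, 1, 0, 0] CA3D5 = true := by decide +kernel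

theorem bndA3D5 : bnd 4 [0, 0, 0, 0, 0, 1, 0, 0] CA3D5 = 21318698642497254476121314304 := by decide +kernel

/-- certificate, `N = 4`, type A7A1 -/
def CA7A1 : Cert := ⟨[2, 3, 4, 5, 6, 0, 2, 3, 4, 5, 1, 3, 4, 2, 3, 0, 2, 1, 3, 4, 5, 6, 4, 5, 3, 4, 2, 3, 0,
  2, 1, 3, 4, 5, 2, 3, 0, 2, 1, 3, 4, 3, 2, 1, 3, 0, 2], [1, 1, 1, 2, 2, 8, 8, 8], [[1, 0, 0, 0, 0, 0, 0, 0],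
  [-1, 1, 0, 0, 0, 0, 0, 0], [-2, 0, 0, 1, 0, 0, 0, 0], [-2, 0, 0, 0, 1, 0, 0, 0], [-8, 0, 0, 3, 0, 1, 0, 0],
  [-4, 3, 0, 0, 0, 0, 1, 0], [0, -6, 0, 3, 0, 1, -2, 1], [0, -3, 1, 0, 0, 0, -1, -2]], [[1, 1, 4, 2, 2, 2, 1,
  0], [0, 1, 0, 0, 0, 0, -3, 0], [0, 0, 0, 1, 0, -3, 0, 0], [0, 0, 0, 0, 1, 0, 0, 0], [0, 0, -2, 0, 0, 1, 0,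
  -1], [0, 0, 5, 0, 0, 0, 1, 2], [0, 0, 2, 0, 0, 0, 0, 1], [0, 0, 1, 0, 0, 0, 0, 0]], [[7, 6, 5, 4, 3, 2, 1,
  3, 4, 5, 6, 0, 2, 3, 4, 5, 1, 3, 4, 2, 3, 0, 2, 1, 3, 4, 5, 6, 7, 6, 5, 4, 3, 2, 1, 3, 4, 5, 6, 0, 2, 3, 4,
  5, 1, 3, 4, 2, 3, 0, 2, 1, 3, 4, 5, 6, 7, 1, 3, 4, 5, 6, 1, 3, 4, 5, 1, 3, 4, 1, 3, 1, 0]]⟩

theorem chkA7A1 : chk 4 [0, 0, 1, 0, 0, 0, 0, 0] CA7A1 = true := by decide +kernel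

theorem bndA7A1 : bnd 4 [0, 0, 1, 0, 0, 0, 0, 0] CA7A1 = 9646343571960309421919444355072 := by decide +kernel

/-- certificate, `N = 4`, type A7 -/
def CA7 : Cert := ⟨[1, 3, 4, 5, 6, 2, 3, 4, 5, 1, 3, 4, 2, 3, 0, 2, 1, 3, 4, 5, 6, 7, 6, 5, 4, 3, 2, 1, 3, 4,
  5, 6, 0, 2, 3, 4, 5, 1, 3, 4, 2, 3, 0, 2, 1, 3, 4, 5, 6, 7, 1, 3, 4, 5, 6, 2, 3, 4, 5, 1, 3, 4, 2, 3, 0, 2,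
  1, 3, 4, 5, 6, 1, 3, 4, 2, 3, 0, 2, 1, 3, 4, 5, 4, 3, 2, 1, 3, 4, 0, 2, 3, 1], [1, 1, 1, 1, 8, 8, 8, 8],
  [[1, 0, 0, 0, 0, 0, 0, 0], [-2, 0, 1, 0, 0, 0, 0, 0], [-3, 0, 0, 1, 0, 0, 0, 0], [-3, 0, 0, 0, 1, 0, 0, 0],
  [-120, 0, 0, 3, 36, 1, 0, 0], [-80, 0, 3, 0, 24, 0, 1, 0], [-13, 0, 0, 0, 4, 0, 0, 1], [-1, 1, 0, 0, 0, 0,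
  0, -3]], [[1, 4, 2, 3, 3, 3, 2, 1], [0, 0, 1, 0, 0, 0, -3, 0], [0, 0, 0, 1, 0, -3, 0, 0], [0, -12, 0, 0, 1,
  -36, -24, -4], [0, 0, 0, 0, 0, 1, 0, 0], [0, 0, 0, 0, 0, 0, 1, 0], [0, 3, 0, 0, 0, 0, 0, 1], [0, 1, 0, 0, 0,
  0, 0, 0]], [[0, 2, 3, 4, 5, 6, 7, 0, 2, 3, 4, 5, 6, 0, 2, 3, 4, 5, 0, 2, 3, 4, 0, 2, 3, 0, 2, 0]]⟩

theorem chkA7 : chk 4 [0, 1, 0, 0, 0, 0, 0, 0] CA7 = true := by decide +kernel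

theorem bndA7 : bnd 4 [0, 1, 0, 0, 0, 0, 0, 0] CA7 = 2143631904880068760426543190016 := by decide +kernel

/-- certificate, `N = 4`, type D6A1 -/
def CD6A1 : Cert := ⟨[0, 2, 3, 4, 5, 1, 3, 4, 2, 3, 0, 2, 1, 3, 4, 5, 6, 5, 4, 3, 2, 1, 3, 4, 5, 0, 2, 3, 4,
  1, 3, 2, 0], [1, 2, 2, 2, 2, 2, 2, 8], [[0, 0, 0, 0, 0, 0, 1, 0], [0, 1, 0, 0, 0, 0, -2, 0], [0, 0, 1, 0, 0,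
  0, -3, 0], [0, 0, 0, 1, 0, 0, -4, 0], [0, 0, 0, 0, 1, 0, -3, 0], [0, 0, 0, 0, 0, 1, -2, 0], [1, 0, 0, 0, 0,
  0, -4, 0], [-1, 0, 0, 0, 0, 0, 4, 1]], [[4, 2, 3, 4, 3, 2, 1, 0], [0, 1, 0, 0, 0, 0, 0, 0], [0, 0, 1, 0, 0,
  0, 0, 0], [0, 0, 0, 1, 0, 0, 0, 0], [0, 0, 0, 0, 1, 0, 0, 0], [0, 0, 0, 0, 0, 1, 0, 0], [1, 0, 0, 0, 0, 0,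
  0, 1], [0, 0, 0, 0, 0, 0, 0, 1]], [[7, 6, 5, 4, 3, 2, 1, 3, 4, 5, 6, 0, 2, 3, 4, 5, 1, 3, 4, 2, 3, 0, 2, 1,
  3, 4, 5, 6, 7, 6, 5, 4, 3, 2, 1, 3, 4, 5, 6, 0, 2, 3, 4, 5, 1, 3, 4, 2, 3, 0, 2, 1, 3, 4, 5, 6, 7, 6, 5, 4,
  3, 2, 1, 3, 4, 5, 6, 5, 4, 3, 2, 1, 3, 4, 5, 4, 3, 2, 1, 3, 4, 3, 2, 1, 3, 2, 1]]⟩

theorem chkD6A1 : chk 4 [1, 0, 0, 0, 0, 0, 0, 1] CD6A1 = true := by decide +kernel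

theorem bndD6A1 : bnd 4 [1, 0, 0, 0, 0, 0, 0, 1] CD6A1 = 195338457332196265793868748190208 := by decide +kernel

/-- certificate, `N = 4`, type A1E6 -/
def CA1E6 : Cert := ⟨[6, 5, 4, 3, 2, 1, 3, 4, 5, 6, 0, 2, 3, 4, 5, 1, 3, 4, 2, 3, 0, 2, 1, 3, 4, 5, 6, 7, 6,
  5, 4, 3, 2, 1, 3, 4, 5, 6, 0, 2, 3, 4, 5, 1, 3, 4, 2, 3, 0, 2, 1, 3, 4, 5, 6, 7, 6, 5, 4, 3, 2, 1, 3, 4, 5,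
  6, 0, 2, 3, 4, 5, 1, 3, 4, 2, 3, 0, 2, 1, 3, 4, 5, 6], [1, 1, 1, 2, 2, 8, 8, 8], [[1, 0, 0, 0, 0, 0, 0, 0],
  [0, 0, 1, 0, 0, 0, 0, 0], [0, 0, 0, 0, 0, 0, 0, 1], [0, 0, 0, 1, 0, 0, 0, -4], [0, 1, 0, 0, 0, 0, 0, -2],
  [3, 0, 0, 0, 0, 1, 0, -8], [0, 0, 0, 0, 0, 0, 1, -4], [0, 0, 3, 0, 1, 0, -3, 0]], [[1, 0, 0, 0, 0, -3, 0,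
  0], [0, 0, 1, 0, -3, 0, 0, 0], [0, 2, 0, 4, 12, 8, 4, 1], [0, 0, 0, 1, 0, 0, 0, 0], [0, 1, 0, 0, 0, 0, 0,
  0], [0, 0, 0, 0, 0, 1, 0, 0], [0, 0, 0, 0, 3, 0, 1, 0], [0, 0, 0, 0, 1, 0, 0, 0]], [[7, 0, 2, 3, 4, 5, 1, 3,
  4, 2, 3, 0, 2, 1, 3, 4, 5, 1, 3, 4, 2, 3, 0, 2, 1, 3, 4, 2, 3, 0, 2, 1, 3, 0, 2, 1, 0]]⟩

theorem chkA1E6 : chk 4 [0, 0, 0, 0, 0, 0, 1, 0] CA1E6 = true := by decide +kernel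

theorem bndA1E6 : bnd 4 [0, 0, 0, 0, 0, 0, 1, 0] CA1E6 = 415243460412318862759037605627809318912 := by decide +kernel

/-- certificate, `N = 4`, type D7 -/
def CD7 : Cert := ⟨[0, 2, 3, 4, 5, 1, 3, 4, 2, 3, 0, 2, 1, 3, 4, 5, 6, 7, 5, 4, 3, 2, 1, 3, 4, 5, 6, 0, 2, 3,
  4, 5, 1, 3, 4, 2, 3, 0, 2, 1, 3, 4, 5, 6, 7, 0, 2, 3, 4, 5, 1, 3, 4, 2, 3, 0, 2, 1, 3, 4, 5, 6, 5, 4, 3, 2,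
  1, 3, 4, 5, 0, 2, 3, 4, 1, 3, 2, 0], [1, 1, 2, 2, 2, 2, 8, 8], [[0, 1, 0, 0, 0, 0, 0, 0], [0, 0, 0, 0, 0, 0,
  0, 1], [0, 0, 0, 1, 0, 0, 0, -5], [0, 0, 0, 0, 1, 0, 0, -4], [0, 0, 0, 0, 0, 1, 0, -3], [0, 0, 0, 0, 0, 0,
  1, -2], [0, 3, 1, 0, 0, 0, 0, -12], [1, 0, 0, 0, 0, 0, 0, -4]], [[0, 1, -3, 0, 0, 0, 0, 0], [4, 0, 12, 5, 4,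
  3, 2, 1], [0, 0, 0, 1, 0, 0, 0, 0], [0, 0, 0, 0, 1, 0, 0, 0], [0, 0, 0, 0, 0, 1, 0, 0], [0, 0, 0, 0, 0, 0,
  1, 0], [0, 0, 1, 0, 0, 0, 0, 0], [1, 0, 0, 0, 0, 0, 0, 0]], [[7, 6, 5, 4, 3, 2, 1, 3, 4, 5, 6, 7, 6, 5, 4,
  3, 2, 1, 3, 4, 5, 6, 5, 4, 3, 2, 1, 3, 4, 5, 4, 3, 2, 1, 3, 4, 3, 2, 1, 3, 2, 1]]⟩

theorem chkD7 : chk 4 [1, 0, 0, 0, 0, 0, 0, 0] CD7 = true := by decide +kernel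

theorem bndD7 : bnd 4 [1, 0, 0, 0, 0, 0, 0, 0] CD7 = 12259855546943508263529205787358256236217344 := by decide +kernel

/-- certificate, `N = 4`, type E7 -/
def CE7 : Cert := ⟨[7, 6, 5, 4, 3, 2, 1, 3, 4, 5, 6, 0, 2, 3, 4, 5, 1, 3, 4, 2, 3, 0, 2, 1, 3, 4, 5, 6, 7, 6,
  5, 4, 3, 2, 1, 3, 4, 5, 6, 0, 2, 3, 4, 5, 1, 3, 4, 2, 3, 0, 2, 1, 3, 4, 5, 6, 7], [1, 2, 2, 2, 2, 2, 2, 8],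
  [[1, 0, 0, 0, 0, 0, 1, 0], [-3, 1, 0, 0, 0, 0, -3, 0], [-4, 0, 1, 0, 0, 0, -4, 0], [-6, 0, 0, 1, 0, 0, -6,
  0], [-5, 0, 0, 0, 1, 0, -5, 0], [-4, 0, 0, 0, 0, 1, -4, 0], [-3, 0, 0, 0, 0, 0, -2, 0], [-4, 0, 0, 0, 0, 0,
  -4, 1]], [[-2, 3, 4, 6, 5, 4, 3, 4], [0, 1, 0, 0, 0, 0, 0, 0], [0, 0, 1, 0, 0, 0, 0, 0], [0, 0, 0, 1, 0, 0,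
  0, 0], [0, 0, 0, 0, 1, 0, 0, 0], [0, 0, 0, 0, 0, 1, 0, 0], [-1, 0, 0, 0, 0, 0, 1, 0], [0, 0, 0, 0, 0, 0, 0,
  1]], [[6, 5, 4, 3, 2, 1, 3, 4, 5, 6, 0, 2, 3, 4, 5, 1, 3, 4, 2, 3, 0, 2, 1, 3, 4, 5, 6, 0, 2, 3, 4, 5, 1, 3,
  4, 2, 3, 0, 2, 1, 3, 4, 5, 1, 3, 4, 2, 3, 0, 2, 1, 3, 4, 2, 3, 0, 2, 1, 3, 0, 2, 1, 0]]⟩

theorem chkE7 : chk 4 [0, 0, 0, 0, 0, 0, 0, 1] CE7 = true := by decide +kernel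

theorem bndE7 : bnd 4 [0, 0, 0, 0, 0, 0, 0, 1] CE7 = 670730500422461620424298545004801061869693815027247849761960448 := by decide +kernel

/-- certificate, `N = 8`, type Y1 -/
def CY1 : Cert := ⟨[3, 4, 5, 6, 7, 2, 3, 4, 5, 6, 0, 2, 3, 4, 5, 1, 3, 4, 2, 3, 0, 2, 1, 3, 4, 5, 6, 7, 4, 5,
  6, 3, 4, 5, 1, 3, 4, 2, 3, 0, 2, 1, 3, 4, 5, 6, 3, 4, 2, 3, 0, 2, 1, 3, 4, 5, 4, 3, 2, 1, 3, 4, 0, 2, 3],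
  [1, 1, 1, 2, 2, 8, 8, 8], [[1, 0, 0, 0, 0, 0, 0, 0], [0, 0, 0, 0, 0, 1, 0, 0], [0, 0, 0, 2, 0, -6, 1, 0],
  [0, 0, 0, -7, 1, 19, -3, 0], [0, 0, 0, 7, 0, -21, 4, 0], [0, 1, 0, -10, 0, 28, -4, 0], [3, -1, 1, -9, 0, 24,
  -4, 0], [0, 3, 0, 7, 0, -24, 4, 1]], [[1, 0, -3, 0, 0, 0, 0, 0], [0, 2, 5, 3, 2, 1, 0, -3], [0, 12, 20, 4,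
  7, 0, -7, -36], [0, 0, 0, 0, 1, 0, 0, 0], [0, -2, -3, -1, -1, 0, 2, 5], [0, 1, 1, 0, 0, 0, 0, -3], [0, 0, 1,
  0, 0, 0, 0, 0], [0, 0, 0, 0, 0, 0, 0, 1]], [[7, 6, 5, 4, 3, 2, 1, 3, 4, 5, 6, 0, 2, 3, 4, 5, 1, 3, 4, 2, 3,
  0, 2, 1, 3, 4, 5, 6, 7, 6, 5, 4, 3, 2, 1, 3, 4, 5, 6, 0, 2, 3, 4, 5, 1, 3, 4, 2, 3, 0, 2, 1, 3, 4, 5, 6, 7,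
  4, 5, 6, 4, 5, 4, 0, 2, 1, 0], [7, 6, 5, 4, 3, 2, 1, 3, 4, 5, 6, 0, 2, 3, 4, 5, 1, 3, 4, 2, 3, 0, 2, 1, 3,
  4, 5, 6, 7, 6, 5, 4, 3, 2, 1, 3, 4, 5, 6, 0, 2, 3, 4, 5, 1, 3, 4, 2, 3, 0, 2, 1, 3, 4, 5, 6, 7, 5, 6, 4, 5,
  4, 0, 2, 1, 0], [7, 6, 5, 4, 3, 2, 1, 3, 4, 5, 6, 0, 2, 3, 4, 5, 1, 3, 4, 2, 3, 0, 2, 1, 3, 4, 5, 6, 7, 6,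
  5, 4, 3, 2, 1, 3, 4, 5, 6, 0, 2, 3, 4, 5, 1, 3, 4, 2, 3, 0, 2, 1, 3, 4, 5, 6, 7, 4, 5, 6, 5, 4, 0, 2, 1, 0],
  [7, 6, 5, 4, 3, 2, 1, 3, 4, 5, 6, 0, 2, 3, 4, 5, 1, 3, 4, 2, 3, 0, 2, 1, 3, 4, 5, 6, 7, 6, 5, 4, 3, 2, 1, 3,
  4, 5, 6, 0, 2, 3, 4, 5, 1, 3, 4, 2, 3, 0, 2, 1, 3, 4, 5, 6, 7, 4, 5, 6, 4, 5, 0, 2, 1, 0], [7, 6, 5, 4, 3,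
  2, 1, 3, 4, 5, 6, 0, 2, 3, 4, 5, 1, 3, 4, 2, 3, 0, 2, 1, 3, 4, 5, 6, 7, 6, 5, 4, 3, 2, 1, 3, 4, 5, 6, 0, 2,
  3, 4, 5, 1, 3, 4, 2, 3, 0, 2, 1, 3, 4, 5, 6, 7, 5, 6, 5, 4, 0, 2, 1, 0], [7, 6, 5, 4, 3, 2, 1, 3, 4, 5, 6,
  0, 2, 3, 4, 5, 1, 3, 4, 2, 3, 0, 2, 1, 3, 4, 5, 6, 7, 6, 5, 4, 3, 2, 1, 3, 4, 5, 6, 0, 2, 3, 4, 5, 1, 3, 4,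
  2, 3, 0, 2, 1, 3, 4, 5, 6, 7, 6, 4, 5, 4, 0, 2, 1, 0], [7, 6, 5, 4, 3, 2, 1, 3, 4, 5, 6, 0, 2, 3, 4, 5, 1,
  3, 4, 2, 3, 0, 2, 1, 3, 4, 5, 6, 7, 6, 5, 4, 3, 2, 1, 3, 4, 5, 6, 0, 2, 3, 4, 5, 1, 3, 4, 2, 3, 0, 2, 1, 3,
  4, 5, 6, 7, 4, 5, 6, 5, 0, 2, 1, 0], [7, 6, 5, 4, 3, 2, 1, 3, 4, 5, 6, 0, 2, 3, 4, 5, 1, 3, 4, 2, 3, 0, 2,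
  1, 3, 4, 5, 6, 7, 6, 5, 4, 3, 2, 1, 3, 4, 5, 6, 0, 2, 3, 4, 5, 1, 3, 4, 2, 3, 0, 2, 1, 3, 4, 5, 6, 7, 5, 6,
  4, 5, 0, 2, 1, 0], [7, 6, 5, 4, 3, 2, 1, 3, 4, 5, 6, 0, 2, 3, 4, 5, 1, 3, 4, 2, 3, 0, 2, 1, 3, 4, 5, 6, 7,
  6, 5, 4, 3, 2, 1, 3, 4, 5, 6, 0, 2, 3, 4, 5, 1, 3, 4, 2, 3, 0, 2, 1, 3, 4, 5, 6, 7, 4, 5, 6, 4, 0, 2, 1, 0],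
  [4, 5, 6, 4, 5, 4, 0, 2, 0], [7, 6, 5, 4, 3, 2, 1, 3, 4, 5, 6, 0, 2, 3, 4, 5, 1, 3, 4, 2, 3, 0, 2, 1, 3, 4,
  5, 6, 7, 6, 5, 4, 3, 2, 1, 3, 4, 5, 6, 0, 2, 3, 4, 5, 1, 3, 4, 2, 3, 0, 2, 1, 3, 4, 5, 6, 7, 5, 6, 5, 0, 2,
  1, 0], [7, 6, 5, 4, 3, 2, 1, 3, 4, 5, 6, 0, 2, 3, 4, 5, 1, 3, 4, 2, 3, 0, 2, 1, 3, 4, 5, 6, 7, 6, 5, 4, 3,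
  2, 1, 3, 4, 5, 6, 0, 2, 3, 4, 5, 1, 3, 4, 2, 3, 0, 2, 1, 3, 4, 5, 6, 7, 6, 5, 4, 0, 2, 1, 0], [7, 6, 5, 4,
  3, 2, 1, 3, 4, 5, 6, 0, 2, 3, 4, 5, 1, 3, 4, 2, 3, 0, 2, 1, 3, 4, 5, 6, 7, 6, 5, 4, 3, 2, 1, 3, 4, 5, 6, 0,
  2, 3, 4, 5, 1, 3, 4, 2, 3, 0, 2, 1, 3, 4, 5, 6, 7, 6, 4, 5, 0, 2, 1, 0], [7, 6, 5, 4, 3, 2, 1, 3, 4, 5, 6,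
  0, 2, 3, 4, 5, 1, 3, 4, 2, 3, 0, 2, 1, 3, 4, 5, 6, 7, 6, 5, 4, 3, 2, 1, 3, 4, 5, 6, 0, 2, 3, 4, 5, 1, 3, 4,
  2, 3, 0, 2, 1, 3, 4, 5, 6, 7, 5, 6, 4, 0, 2, 1, 0], [7, 6, 5, 4, 3, 2, 1, 3, 4, 5, 6, 0, 2, 3, 4, 5, 1, 3,
  4, 2, 3, 0, 2, 1, 3, 4, 5, 6, 7, 6, 5, 4, 3, 2, 1, 3, 4, 5, 6, 0, 2, 3, 4, 5, 1, 3, 4, 2, 3, 0, 2, 1, 3, 4,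
  5, 6, 7, 4, 5, 4, 0, 2, 1, 0], [7, 6, 5, 4, 3, 2, 1, 3, 4, 5, 6, 0, 2, 3, 4, 5, 1, 3, 4, 2, 3, 0, 2, 1, 3,
  4, 5, 6, 7, 6, 5, 4, 3, 2, 1, 3, 4, 5, 6, 0, 2, 3, 4, 5, 1, 3, 4, 2, 3, 0, 2, 1, 3, 4, 5, 6, 7, 4, 5, 6, 0,
  2, 1, 0], [5, 6, 4, 5, 4, 0, 2, 0], [4, 5, 6, 5, 4, 0, 2, 0], [4, 5, 6, 4, 5, 0, 2, 0], [7, 6, 5, 4, 3, 2,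
  1, 3, 4, 5, 6, 0, 2, 3, 4, 5, 1, 3, 4, 2, 3, 0, 2, 1, 3, 4, 5, 6, 7, 6, 5, 4, 3, 2, 1, 3, 4, 5, 6, 0, 2, 3,
  4, 5, 1, 3, 4, 2, 3, 0, 2, 1, 3, 4, 5, 6, 7, 4, 5, 6, 4, 5, 4, 1], [7, 6, 5, 4, 3, 2, 1, 3, 4, 5, 6, 0, 2,
  3, 4, 5, 1, 3, 4, 2, 3, 0, 2, 1, 3, 4, 5, 6, 7, 6, 5, 4, 3, 2, 1, 3, 4, 5, 6, 0, 2, 3, 4, 5, 1, 3, 4, 2, 3,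
  0, 2, 1, 3, 4, 5, 6, 7, 6, 5, 0, 2, 1, 0], [7, 6, 5, 4, 3, 2, 1, 3, 4, 5, 6, 0, 2, 3, 4, 5, 1, 3, 4, 2, 3,
  0, 2, 1, 3, 4, 5, 6, 7, 6, 5, 4, 3, 2, 1, 3, 4, 5, 6, 0, 2, 3, 4, 5, 1, 3, 4, 2, 3, 0, 2, 1, 3, 4, 5, 6, 7,
  6, 4, 0, 2, 1, 0], [7, 6, 5, 4, 3, 2, 1, 3, 4, 5, 6, 0, 2, 3, 4, 5, 1, 3, 4, 2, 3, 0, 2, 1, 3, 4, 5, 6, 7,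
  6, 5, 4, 3, 2, 1, 3, 4, 5, 6, 0, 2, 3, 4, 5, 1, 3, 4, 2, 3, 0, 2, 1, 3, 4, 5, 6, 7, 5, 6, 0, 2, 1, 0], [7,
  6, 5, 4, 3, 2, 1, 3, 4, 5, 6, 0, 2, 3, 4, 5, 1, 3, 4, 2, 3, 0, 2, 1, 3, 4, 5, 6, 7, 6, 5, 4, 3, 2, 1, 3, 4,
  5, 6, 0, 2, 3, 4, 5, 1, 3, 4, 2, 3, 0, 2, 1, 3, 4, 5, 6, 7, 5, 4, 0, 2, 1, 0], [7, 6, 5, 4, 3, 2, 1, 3, 4,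
  5, 6, 0, 2, 3, 4, 5, 1, 3, 4, 2, 3, 0, 2, 1, 3, 4, 5, 6, 7, 6, 5, 4, 3, 2, 1, 3, 4, 5, 6, 0, 2, 3, 4, 5, 1,
  3, 4, 2, 3, 0, 2, 1, 3, 4, 5, 6, 7, 4, 5, 0, 2, 1, 0], [5, 6, 5, 4, 0, 2, 0], [6, 4, 5, 4, 0, 2, 0], [4, 5,
  6, 5, 0, 2, 0], [5, 6, 4, 5, 0, 2, 0], [4, 5, 6, 4, 0, 2, 0], [7, 6, 5, 4, 3, 2, 1, 3, 4, 5, 6, 0, 2, 3, 4,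
  5, 1, 3, 4, 2, 3, 0, 2, 1, 3, 4, 5, 6, 7, 6, 5, 4, 3, 2, 1, 3, 4, 5, 6, 0, 2, 3, 4, 5, 1, 3, 4, 2, 3, 0, 2,
  1, 3, 4, 5, 6, 7, 5, 6, 4, 5, 4, 1], [7, 6, 5, 4, 3, 2, 1, 3, 4, 5, 6, 0, 2, 3, 4, 5, 1, 3, 4, 2, 3, 0, 2,
  1, 3, 4, 5, 6, 7, 6, 5, 4, 3, 2, 1, 3, 4, 5, 6, 0, 2, 3, 4, 5, 1, 3, 4, 2, 3, 0, 2, 1, 3, 4, 5, 6, 7, 4, 5,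
  6, 5, 4, 1], [7, 6, 5, 4, 3, 2, 1, 3, 4, 5, 6, 0, 2, 3, 4, 5, 1, 3, 4, 2, 3, 0, 2, 1, 3, 4, 5, 6, 7, 6, 5,
  4, 3, 2, 1, 3, 4, 5, 6, 0, 2, 3, 4, 5, 1, 3, 4, 2, 3, 0, 2, 1, 3, 4, 5, 6, 7, 4, 5, 6, 4, 5, 1], [7, 6, 5,
  4, 3, 2, 1, 3, 4, 5, 6, 0, 2, 3, 4, 5, 1, 3, 4, 2, 3, 0, 2, 1, 3, 4, 5, 6, 7, 6, 5, 4, 3, 2, 1, 3, 4, 5, 6,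
  0, 2, 3, 4, 5, 1, 3, 4, 2, 3, 0, 2, 1, 3, 4, 5, 6, 7, 6, 0, 2, 1, 0], [7, 6, 5, 4, 3, 2, 1, 3, 4, 5, 6, 0,
  2, 3, 4, 5, 1, 3, 4, 2, 3, 0, 2, 1, 3, 4, 5, 6, 7, 6, 5, 4, 3, 2, 1, 3, 4, 5, 6, 0, 2, 3, 4, 5, 1, 3, 4, 2,
  3, 0, 2, 1, 3, 4, 5, 6, 7, 5, 0, 2, 1, 0], [7, 6, 5, 4, 3, 2, 1, 3, 4, 5, 6, 0, 2, 3, 4, 5, 1, 3, 4, 2, 3,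
  0, 2, 1, 3, 4, 5, 6, 7, 6, 5, 4, 3, 2, 1, 3, 4, 5, 6, 0, 2, 3, 4, 5, 1, 3, 4, 2, 3, 0, 2, 1, 3, 4, 5, 6, 7,
  4, 0, 2, 1, 0], [5, 6, 5, 0, 2, 0], [6, 5, 4, 0, 2, 0], [6, 4, 5, 0, 2, 0], [5, 6, 4, 0, 2, 0], [4, 5, 4, 0,
  2, 0], [4, 5, 6, 0, 2, 0], [7, 6, 5, 4, 3, 2, 1, 3, 4, 5, 6, 0, 2, 3, 4, 5, 1, 3, 4, 2, 3, 0, 2, 1, 3, 4, 5,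
  6, 7, 6, 5, 4, 3, 2, 1, 3, 4, 5, 6, 0, 2, 3, 4, 5, 1, 3, 4, 2, 3, 0, 2, 1, 3, 4, 5, 6, 7, 5, 6, 5, 4, 1],
  [7, 6, 5, 4, 3, 2, 1, 3, 4, 5, 6, 0, 2, 3, 4, 5, 1, 3, 4, 2, 3, 0, 2, 1, 3, 4, 5, 6, 7, 6, 5, 4, 3, 2, 1, 3,
  4, 5, 6, 0, 2, 3, 4, 5, 1, 3, 4, 2, 3, 0, 2, 1, 3, 4, 5, 6, 7, 6, 4, 5, 4, 1], [7, 6, 5, 4, 3, 2, 1, 3, 4,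
  5, 6, 0, 2, 3, 4, 5, 1, 3, 4, 2, 3, 0, 2, 1, 3, 4, 5, 6, 7, 6, 5, 4, 3, 2, 1, 3, 4, 5, 6, 0, 2, 3, 4, 5, 1,
  3, 4, 2, 3, 0, 2, 1, 3, 4, 5, 6, 7, 4, 5, 6, 5, 1], [7, 6, 5, 4, 3, 2, 1, 3, 4, 5, 6, 0, 2, 3, 4, 5, 1, 3,
  4, 2, 3, 0, 2, 1, 3, 4, 5, 6, 7, 6, 5, 4, 3, 2, 1, 3, 4, 5, 6, 0, 2, 3, 4, 5, 1, 3, 4, 2, 3, 0, 2, 1, 3, 4,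
  5, 6, 7, 5, 6, 4, 5, 1], [7, 6, 5, 4, 3, 2, 1, 3, 4, 5, 6, 0, 2, 3, 4, 5, 1, 3, 4, 2, 3, 0, 2, 1, 3, 4, 5,
  6, 7, 6, 5, 4, 3, 2, 1, 3, 4, 5, 6, 0, 2, 3, 4, 5, 1, 3, 4, 2, 3, 0, 2, 1, 3, 4, 5, 6, 7, 4, 5, 6, 4, 1],
  [4, 5, 6, 4, 5, 4], [7, 6, 5, 4, 3, 2, 1, 3, 4, 5, 6, 0, 2, 3, 4, 5, 1, 3, 4, 2, 3, 0, 2, 1, 3, 4, 5, 6, 7,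
  6, 5, 4, 3, 2, 1, 3, 4, 5, 6, 0, 2, 3, 4, 5, 1, 3, 4, 2, 3, 0, 2, 1, 3, 4, 5, 6, 7, 0, 2, 1, 0], [6, 5, 0,
  2, 0], [6, 4, 0, 2, 0], [5, 6, 0, 2, 0], [5, 4, 0, 2, 0], [4, 5, 0, 2, 0], [7, 6, 5, 4, 3, 2, 1, 3, 4, 5, 6,
  0, 2, 3, 4, 5, 1, 3, 4, 2, 3, 0, 2, 1, 3, 4, 5, 6, 7, 6, 5, 4, 3, 2, 1, 3, 4, 5, 6, 0, 2, 3, 4, 5, 1, 3, 4,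
  2, 3, 0, 2, 1, 3, 4, 5, 6, 7, 5, 6, 5, 1], [7, 6, 5, 4, 3, 2, 1, 3, 4, 5, 6, 0, 2, 3, 4, 5, 1, 3, 4, 2, 3,
  0, 2, 1, 3, 4, 5, 6, 7, 6, 5, 4, 3, 2, 1, 3, 4, 5, 6, 0, 2, 3, 4, 5, 1, 3, 4, 2, 3, 0, 2, 1, 3, 4, 5, 6, 7,
  6, 5, 4, 1], [7, 6, 5, 4, 3, 2, 1, 3, 4, 5, 6, 0, 2, 3, 4, 5, 1, 3, 4, 2, 3, 0, 2, 1, 3, 4, 5, 6, 7, 6, 5,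
  4, 3, 2, 1, 3, 4, 5, 6, 0, 2, 3, 4, 5, 1, 3, 4, 2, 3, 0, 2, 1, 3, 4, 5, 6, 7, 6, 4, 5, 1], [7, 6, 5, 4, 3,
  2, 1, 3, 4, 5, 6, 0, 2, 3, 4, 5, 1, 3, 4, 2, 3, 0, 2, 1, 3, 4, 5, 6, 7, 6, 5, 4, 3, 2, 1, 3, 4, 5, 6, 0, 2,
  3, 4, 5, 1, 3, 4, 2, 3, 0, 2, 1, 3, 4, 5, 6, 7, 5, 6, 4, 1], [7, 6, 5, 4, 3, 2, 1, 3, 4, 5, 6, 0, 2, 3, 4,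
  5, 1, 3, 4, 2, 3, 0, 2, 1, 3, 4, 5, 6, 7, 6, 5, 4, 3, 2, 1, 3, 4, 5, 6, 0, 2, 3, 4, 5, 1, 3, 4, 2, 3, 0, 2,
  1, 3, 4, 5, 6, 7, 4, 5, 4, 1], [7, 6, 5, 4, 3, 2, 1, 3, 4, 5, 6, 0, 2, 3, 4, 5, 1, 3, 4, 2, 3, 0, 2, 1, 3,
  4, 5, 6, 7, 6, 5, 4, 3, 2, 1, 3, 4, 5, 6, 0, 2, 3, 4, 5, 1, 3, 4, 2, 3, 0, 2, 1, 3, 4, 5, 6, 7, 4, 5, 6, 1],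
  [5, 6, 4, 5, 4], [4, 5, 6, 5, 4], [4, 5, 6, 4, 5], [6, 0, 2, 0], [5, 0, 2, 0], [4, 0, 2, 0], [7, 6, 5, 4, 3,
  2, 1, 3, 4, 5, 6, 0, 2, 3, 4, 5, 1, 3, 4, 2, 3, 0, 2, 1, 3, 4, 5, 6, 7, 6, 5, 4, 3, 2, 1, 3, 4, 5, 6, 0, 2,
  3, 4, 5, 1, 3, 4, 2, 3, 0, 2, 1, 3, 4, 5, 6, 7, 6, 5, 1], [7, 6, 5, 4, 3, 2, 1, 3, 4, 5, 6, 0, 2, 3, 4, 5,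
  1, 3, 4, 2, 3, 0, 2, 1, 3, 4, 5, 6, 7, 6, 5, 4, 3, 2, 1, 3, 4, 5, 6, 0, 2, 3, 4, 5, 1, 3, 4, 2, 3, 0, 2, 1,
  3, 4, 5, 6, 7, 6, 4, 1], [7, 6, 5, 4, 3, 2, 1, 3, 4, 5, 6, 0, 2, 3, 4, 5, 1, 3, 4, 2, 3, 0, 2, 1, 3, 4, 5,
  6, 7, 6, 5, 4, 3, 2, 1, 3, 4, 5, 6, 0, 2, 3, 4, 5, 1, 3, 4, 2, 3, 0, 2, 1, 3, 4, 5, 6, 7, 5, 6, 1], [7, 6,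
  5, 4, 3, 2, 1, 3, 4, 5, 6, 0, 2, 3, 4, 5, 1, 3, 4, 2, 3, 0, 2, 1, 3, 4, 5, 6, 7, 6, 5, 4, 3, 2, 1, 3, 4, 5,
  6, 0, 2, 3, 4, 5, 1, 3, 4, 2, 3, 0, 2, 1, 3, 4, 5, 6, 7, 5, 4, 1], [7, 6, 5, 4, 3, 2, 1, 3, 4, 5, 6, 0, 2,
  3, 4, 5, 1, 3, 4, 2, 3, 0, 2, 1, 3, 4, 5, 6, 7, 6, 5, 4, 3, 2, 1, 3, 4, 5, 6, 0, 2, 3, 4, 5, 1, 3, 4, 2, 3,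
  0, 2, 1, 3, 4, 5, 6, 7, 4, 5, 1], [5, 6, 5, 4], [6, 4, 5, 4], [4, 5, 6, 5], [5, 6, 4, 5], [4, 5, 6, 4], [0,
  2, 0], [7, 6, 5, 4, 3, 2, 1, 3, 4, 5, 6, 0, 2, 3, 4, 5, 1, 3, 4, 2, 3, 0, 2, 1, 3, 4, 5, 6, 7, 6, 5, 4, 3,
  2, 1, 3, 4, 5, 6, 0, 2, 3, 4, 5, 1, 3, 4, 2, 3, 0, 2, 1, 3, 4, 5, 6, 7, 6, 1], [7, 6, 5, 4, 3, 2, 1, 3, 4,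
  5, 6, 0, 2, 3, 4, 5, 1, 3, 4, 2, 3, 0, 2, 1, 3, 4, 5, 6, 7, 6, 5, 4, 3, 2, 1, 3, 4, 5, 6, 0, 2, 3, 4, 5, 1,
  3, 4, 2, 3, 0, 2, 1, 3, 4, 5, 6, 7, 5, 1], [7, 6, 5, 4, 3, 2, 1, 3, 4, 5, 6, 0, 2, 3, 4, 5, 1, 3, 4, 2, 3,
  0, 2, 1, 3, 4, 5, 6, 7, 6, 5, 4, 3, 2, 1, 3, 4, 5, 6, 0, 2, 3, 4, 5, 1, 3, 4, 2, 3, 0, 2, 1, 3, 4, 5, 6, 7,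
  4, 1], [5, 6, 5], [6, 5, 4], [6, 4, 5], [5, 6, 4], [4, 5, 4], [4, 5, 6], [7, 6, 5, 4, 3, 2, 1, 3, 4, 5, 6,
  0, 2, 3, 4, 5, 1, 3, 4, 2, 3, 0, 2, 1, 3, 4, 5, 6, 7, 6, 5, 4, 3, 2, 1, 3, 4, 5, 6, 0, 2, 3, 4, 5, 1, 3, 4,
  2, 3, 0, 2, 1, 3, 4, 5, 6, 7, 1], [6, 5], [6, 4], [5, 6], [5, 4], [4, 5], [6], [5], [4], []]⟩

theorem chkY1 : chk 8 [0, 0, 0, 1, 0, 0, 0, 1] CY1 = true := by decide +kernel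

theorem bndY1 : bnd 8 [0, 0, 0, 1, 0, 0, 0, 1] CY1 = 211293005414400 := by decide +kernel

/-- certificate, `N = 8`, type Y2 -/
def CY2 : Cert := ⟨[6, 5, 4, 3, 2, 1, 3, 4, 5, 6, 7, 6, 5, 4, 3, 2, 1, 3, 4, 5, 6, 0, 2, 3, 4, 5, 1, 3, 4, 2,
  3, 0, 2, 1, 3, 4, 5, 6, 7, 5, 6, 4, 5, 3, 4, 2, 3, 0, 2, 1, 3, 4, 5, 6], [1, 1, 1, 1, 8, 8, 8, 8], [[1, 0,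
  0, 0, 0, 0, 0, 0], [-1, 1, 0, 0, 0, 0, 0, 0], [1, 0, 1, 0, 0, 0, 0, 0], [0, 0, 2, 1, 0, 0, 0, 0], [0, 0, 7,
  3, 1, 0, 0, 0], [0, 3, 4, 0, 0, 1, 0, 0], [0, 0, 1, 0, 0, 0, 1, 0], [3, 0, 1, 0, 0, 0, -2, 1]], [[1, 1, -1,
  2, 1, 1, 1, 0], [0, 1, 0, 0, 0, -3, 0, 0], [0, 0, 1, -2, -1, -4, -1, -3], [0, 0, 0, 1, -3, 0, 0, 0], [0, 0,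
  0, 0, 1, 0, 0, 0], [0, 0, 0, 0, 0, 1, 0, 0], [0, 0, 0, 0, 0, 0, 1, 2], [0, 0, 0, 0, 0, 0, 0, 1]], [[7, 1, 3,
  4, 5, 1, 3, 4, 1, 3, 1, 0]]⟩

theorem chkY2 : chk 8 [0, 0, 1, 0, 0, 0, 1, 0] CY2 = true := by decide +kernel

theorem bndY2 : bnd 8 [0, 0, 1, 0, 0, 0, 1, 0] CY2 = 1156831381426176 := by decide +kernel

/-- certificate, `N = 8`, type Y3 -/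
def CY3 : Cert := ⟨[0, 2, 3, 4, 5, 1, 3, 4, 2, 3, 0, 2, 1, 3, 4, 5, 6, 7, 5, 4, 3, 2, 1, 3, 4, 5, 6, 5, 4, 3,
  2, 1, 3, 4, 5, 0, 2, 3, 4, 1, 3, 2, 0], [1, 1, 1, 2, 2, 8, 8, 8], [[1, 0, 0, 0, 0, 0, 0, 0], [-1, 0, 1, 0,
  0, 0, 0, 0], [-1, 0, 0, 0, 0, 0, 1, 0], [-2, 0, 0, 1, 0, 0, 0, 0], [-1, 1, 0, 0, 0, 0, 0, 0], [1, 0, 0, 0,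
  0, 1, 0, 0], [-4, 0, 3, 0, 1, 1, 0, 0], [-2, 0, 0, 0, 0, 1, 3, 1]], [[1, 1, 1, 2, 2, -1, 1, 0], [0, 0, 1, 0,
  -3, 0, 0, 0], [0, 0, 0, 0, 0, 0, 1, -3], [0, 0, 0, 1, 0, 0, 0, 0], [0, 1, 0, 0, 0, 0, 0, 0], [0, 0, 0, 0,
  -1, 1, 0, -1], [0, 0, 0, 0, 1, 0, 0, 0], [0, 0, 0, 0, 0, 0, 0, 1]], [[6, 7, 6, 4, 3, 2, 1, 3, 4, 3, 2, 1, 3,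
  2, 1]]⟩

theorem chkY3 : chk 8 [1, 0, 0, 0, 0, 1, 0, 0] CY3 = true := by decide +kernel

theorem bndY3 : bnd 8 [1, 0, 0, 0, 0, 1, 0, 0] CY3 = 421665038529841152 := by decide +kernel

end Cfsg.Agent.H942.CB
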